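/-
The symplectic group of the standard form acting on column vectors: transvections and their conjugation.
-/
import Cfsg.Statements.S3713
import Mathlib

set_option autoImplicit false

namespace CfsgLib.Chev.CT.SpAm

open Matrix

universe u

variable (F : Type u) [Field F] (n : ℕ)

/-- Column vectors. -/
abbrev V := Fin n ⊕ Fin n → F

/-- The symplectic group. -/
abbrev Sp := ↥(Matrix.symplecticGroup (Fin n) F)

variable {F n}

/-- The first half of the basis. -/
def be (i : Fin n) : V F n := Pi.single (Sum.inl i) 1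

/-- The second half of the basis. -/
def bf (i : Fin n) : V F n := Pi.single (Sum.inr i) 1

/-- The alternating form. -/
def om (x y : V F n) : F :=
  ∑ i : Fin n, (x (Sum.inl i) * y (Sum.inr i) - x (Sum.inr i) * y (Sum.inl i))

@[simp] theorem om_self (x : V F n) : om x x = 0 :=
  Finset.sum_eq_zero fun i _ => by ring

theorem om_swap (x y : V F n) : om x y = -om y x := by
  rw [om, om, ← Finset.sum_neg_distrib]
  exact Finset.sum_congr rfl fun i _ => by ring

@[simp] theorem om_add_left (x y z : V F n) : om (x + y) z = om x z + om y z := by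
  simp only [om, Pi.add_apply, ← Finset.sum_add_distrib]
  exact Finset.sum_congr rfl fun i _ => by ring

@[simp] theorem om_add_right (x y z : V F n) : om x (y + z) = om x y + om x z := by
  simp only [om, Pi.add_apply, ← Finset.sum_add_distrib]
  exact Finset.sum_congr rfl fun i _ => by ring

@[simp] theorem om_smul_left (c : F) (x y : V F n) : om (c • x) y = c * om x y := by
  simp only [om, Pi.smul_apply, smul_eq_mul, Finset.mul_sum]
  exact Finset.sum_congr rfl fun i _ => by ring

@[simp] theorem om_smul_right (c : F) (x y : V F n) : om x (c • y) = c * om x y := by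
  simp only [om, Pi.smul_apply, smul_eq_mul, Finset.mul_sum]
  exact Finset.sum_congr rfl fun i _ => by ring

@[simp] theorem om_neg_left (x y : V F n) : om (-x) y = -om x y := by
  simpa using om_smul_left (-1 : F) x y

@[simp] theorem om_neg_right (x y : V F n) : om x (-y) = -om x y := by
  simpa using om_smul_right (-1 : F) x y

@[simp] theorem om_sub_left (x y z : V F n) : om (x - y) z = om x z - om y z := by
  rw [sub_eq_add_neg, om_add_left, om_neg_left, sub_eq_add_neg]

@[simp] theorem om_sub_right (x y z : V F n) : om x (y - z) = om x y - om x z := by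
  rw [sub_eq_add_neg, om_add_right, om_neg_right, sub_eq_add_neg]

@[simp] theorem om_zero_left (x : V F n) : om 0 x = 0 := by simp [om]
@[simp] theorem om_zero_right (x : V F n) : om x 0 = 0 := by simp [om]

theorem om_be_right (x : V F n) (i : Fin n) : om x (be i) = -x (Sum.inr i) := by
  simp [om, be, Finset.sum_neg_distrib, Pi.single_apply]

theorem om_bf_right (x : V F n) (i : Fin n) : om x (bf i) = x (Sum.inl i) := by
  simp [om, bf, Pi.single_apply]

theorem be_inl (i j : Fin n) : (be i : V F n) (Sum.inl j) = if j = i then 1 else 0 := by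
  simp [be, Pi.single_apply]

theorem be_inr (i j : Fin n) : (be i : V F n) (Sum.inr j) = 0 := by simp [be, Pi.single_apply]

theorem bf_inr (i j : Fin n) : (bf i : V F n) (Sum.inr j) = if j = i then 1 else 0 := by
  simp [bf, Pi.single_apply]

theorem bf_inl (i j : Fin n) : (bf i : V F n) (Sum.inl j) = 0 := by simp [bf, Pi.single_apply]

theorem om_be_bf (i j : Fin n) : om (be i : V F n) (bf j) = if j = i then 1 else 0 := by
  rw [om_bf_right, be_inl]

theorem om_bf_be (i j : Fin n) : om (bf i : V F n) (be j) = if j = i then -1 else 0 := by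
  rw [om_be_right, bf_inr]; split <;> simp

theorem om_be_be (i j : Fin n) : om (be i : V F n) (be j) = 0 := by
  rw [om_be_right, be_inr, neg_zero]

theorem om_bf_bf (i j : Fin n) : om (bf i : V F n) (bf j) = 0 := by
  rw [om_bf_right, bf_inl]

theorem vec_ext_om {x y : V F n} (h : ∀ z, om x z = om y z) : x = y := by
  funext i
  cases i with
  | inl i => simpa [om_bf_right] using h (bf i)
  | inr i => simpa [om_be_right] using h (be i)

theorem J_mulVec (y : V F n) :
    (J (Fin n) F) *ᵥ y = Sum.elim (fun i => -y (Sum.inr i)) (fun i => y (Sum.inl i)) := by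
  rw [J, fromBlocks_mulVec]
  funext i
  cases i <;> simp [neg_mulVec]

theorem dot_J (x y : V F n) : x ⬝ᵥ ((J (Fin n) F) *ᵥ y) = -om x y := by
  rw [J_mulVec, om, ← Finset.sum_neg_distrib]
  simp only [dotProduct, Fintype.sum_sum_type, Sum.elim_inl, Sum.elim_inr, ← Finset.sum_add_distrib]
  exact Finset.sum_congr rfl fun i _ => by ring

/-- The action on vectors. -/
def act (g : Sp F n) (x : V F n) : V F n := g.1 *ᵥ x

@[simp] theorem act_one (x : V F n) : act 1 x = x := one_mulVec x
@[simp] theorem act_mul (g h : Sp F n) (x : V F n) : act (g * h) x = act g (act h x) :=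
  (mulVec_mulVec x g.1 h.1).symm
@[simp] theorem act_add (g : Sp F n) (x y : V F n) : act g (x + y) = act g x + act g y :=
  mulVec_add _ _ _
@[simp] theorem act_sub (g : Sp F n) (x y : V F n) : act g (x - y) = act g x - act g y :=
  mulVec_sub _ _ _
@[simp] theorem act_neg (g : Sp F n) (x : V F n) : act g (-x) = -act g x := mulVec_neg _ _
@[simp] theorem act_smul (g : Sp F n) (c : F) (x : V F n) : act g (c • x) = c • act g x :=
  mulVec_smul _ _ _
@[simp] theorem act_zero (g : Sp F n) : act g 0 = 0 := mulVec_zero _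

@[simp] theorem act_inv_act (g : Sp F n) (x : V F n) : act g⁻¹ (act g x) = x := by
  rw [← act_mul, inv_mul_cancel, act_one]

@[simp] theorem act_act_inv (g : Sp F n) (x : V F n) : act g (act g⁻¹ x) = x := by
  rw [← act_mul, mul_inv_cancel, act_one]

theorem act_inj (g : Sp F n) {x y : V F n} (h : act g x = act g y) : x = y := by
  rw [← act_inv_act g x, h, act_inv_act]

theorem act_inv_eq {g : Sp F n} {x y : V F n} (h : act g x = y) : act g⁻¹ y = x := by
  rw [← h, act_inv_act]

theorem Sp_ext {g h : Sp F n} (e : ∀ x, act g x = act h x) : g = h :=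
  Subtype.ext (Matrix.ext_iff_mulVec.2 e)

theorem Sp_ext_basis {g h : Sp F n} (he : ∀ i, act g (be i) = act h (be i))
    (hf : ∀ i, act g (bf i) = act h (bf i)) : g = h := by
  refine Subtype.ext (Matrix.ext fun p q => ?_)
  cases q with
  | inl i => simpa [act, be] using congrFun (he i) p
  | inr i => simpa [act, bf] using congrFun (hf i) p

theorem om_act (g : Sp F n) (x y : V F n) : om (act g x) (act g y) = om x y := by
  have h : g.1ᵀ * J (Fin n) F * g.1 = J (Fin n) F := SymplecticGroup.mem_iff'.1 g.2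
  have e : (g.1 *ᵥ x) ⬝ᵥ (J (Fin n) F *ᵥ (g.1 *ᵥ y)) = x ⬝ᵥ (J (Fin n) F *ᵥ y) := by
    conv_rhs => rw [← h]
    rw [← mulVec_mulVec, ← mulVec_mulVec, dotProduct_mulVec x g.1ᵀ, vecMul_transpose]
  rw [dot_J, dot_J, neg_inj] at e
  exact e

/-- A linear map preserving the form, as an element of the symplectic group. -/
def ofLin (L : V F n →ₗ[F] V F n) (h : ∀ x y, om (L x) (L y) = om x y) : Sp F n :=
  ⟨LinearMap.toMatrix' L, by
    rw [SymplecticGroup.mem_iff', Matrix.ext_iff_mulVec]
    intro v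
    refine dotProduct_eq _ _ fun u => ?_
    rw [dotProduct_comm, dotProduct_comm (J (Fin n) F *ᵥ v), ← mulVec_mulVec, ← mulVec_mulVec,
      dotProduct_mulVec u, vecMul_transpose, LinearMap.toMatrix'_mulVec, LinearMap.toMatrix'_mulVec,
      dot_J, dot_J, h]⟩

theorem act_ofLin (L : V F n →ₗ[F] V F n) (h : ∀ x y, om (L x) (L y) = om x y) (x : V F n) :
    act (ofLin L h) x = L x :=
  LinearMap.toMatrix'_mulVec L x

/-- The transvection. -/
def T (v : V F n) (c : F) : Sp F n :=
  ofLin
    { toFun := fun y => y + (c * om v y) • v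
      map_add' := fun y z => by simp only [om_add_right]; module
      map_smul' := fun r y => by simp only [om_smul_right, RingHom.id_apply]; module }
    (fun x y => by
      simp only [LinearMap.coe_mk, AddHom.coe_mk, om_add_left, om_add_right, om_smul_left,
        om_smul_right, om_self]
      rw [om_swap x v]; ring)

@[simp] theorem act_T (v : V F n) (c : F) (y : V F n) : act (T v c) y = y + (c * om v y) • v :=
  act_ofLin _ _ y

theorem T_add (v : V F n) (c d : F) : T v c * T v d = T v (c + d) :=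
  Sp_ext fun y => by simp; module

@[simp] theorem T_zero (v : V F n) : T v 0 = 1 := Sp_ext fun y => by simp

@[simp] theorem T_zero_vec (c : F) : T (0 : V F n) c = 1 := Sp_ext fun y => by simp

theorem T_inv (v : V F n) (c : F) : (T v c)⁻¹ = T v (-c) :=
  inv_eq_of_mul_eq_one_right (by rw [T_add, add_neg_cancel, T_zero])

theorem T_smul (v : V F n) (r c : F) : T (r • v) c = T v (r * r * c) :=
  Sp_ext fun y => by simp; module

theorem T_neg (v : V F n) (c : F) : T (-v) c = T v c := by
  rw [show -v = (-1 : F) • v by simp, T_smul]; congr 1; ring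

theorem T_conj (g : Sp F n) (v : V F n) (c : F) : g * T v c * g⁻¹ = T (act g v) c :=
  Sp_ext fun y => by
    rw [act_mul, act_mul, act_T, act_T, act_add, act_smul, act_act_inv]
    congr 3
    rw [← om_act g, act_act_inv]

theorem T_comm {v w : V F n} (h : om v w = 0) (c d : F) : T v c * T w d = T w d * T v c :=
  Sp_ext fun y => by
    have h' : om w v = 0 := by rw [om_swap, h, neg_zero]
    simp [h, h']; module

/-- The Eichler transformation of two orthogonal vectors. -/
def Ei (p q : V F n) : Sp F n := T (p + q) 1 * T p (-1) * T q (-1)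

theorem act_Ei {p q : V F n} (h : om p q = 0) (y : V F n) :
    act (Ei p q) y = y + om p y • q + om q y • p := by
  have h' : om q p = 0 := by rw [om_swap, h, neg_zero]
  simp [Ei, h, h']; module

theorem Ei_conj (g : Sp F n) (p q : V F n) : g * Ei p q * g⁻¹ = Ei (act g p) (act g q) := by
  rw [Ei, Ei, ← act_add, ← T_conj, ← T_conj, ← T_conj]; group

theorem Ei_symm {p q : V F n} (h : om p q = 0) : Ei p q = Ei q p :=
  Sp_ext fun y => by
    rw [act_Ei h, act_Ei (show om q p = 0 by rw [om_swap, h, neg_zero])]; module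

theorem Ei_smul {p q : V F n} (h : om p q = 0) (r : F) : Ei (r • p) q = Ei p (r • q) :=
  Sp_ext fun y => by
    rw [act_Ei (by simp [h]), act_Ei (by simp [h])]; simp; module

@[simp] theorem Ei_zero (p : V F n) : Ei p 0 = 1 := by
  simp [Ei, T_add]

theorem Ei_mul {a x y : V F n} (hx : om a x = 0) (hy : om a y = 0) :
    Ei a x * Ei a y = Ei a (x + y) * T a (om x y) :=
  Sp_ext fun z => by
    have hxy : om a (x + y) = 0 := by simp [hx, hy]
    have hx' : om x a = 0 := by rw [om_swap, hx, neg_zero]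
    have hy' : om y a = 0 := by rw [om_swap, hy, neg_zero]
    simp [act_Ei hx, act_Ei hy, act_Ei hxy, hx, hy, hx', hy']; module

theorem T_add_vec {p q : V F n} (h : om p q = 0) (t : F) :
    T (p + q) t = T p t * Ei p (t • q) * T q t :=
  Sp_ext fun y => by
    have h' : om q p = 0 := by rw [om_swap, h, neg_zero]
    simp [act_Ei (show om p (t • q) = 0 by simp [h]), h, h']; module

/-- The subgroup of elements fixing every vector of a set. -/
def fixer (s : Set (V F n)) : Subgroup (Sp F n) where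
  carrier := {g | ∀ x ∈ s, act g x = x}
  one_mem' := fun x _ => act_one x
  mul_mem' := fun {g h} hg hh x hx => by rw [act_mul, hh x hx, hg x hx]
  inv_mem' := fun {g} hg x hx => act_inv_eq (hg x hx)

theorem mem_fixer {s : Set (V F n)} {g : Sp F n} : g ∈ fixer s ↔ ∀ x ∈ s, act g x = x := Iff.rfl

theorem T_mem_fixer {s : Set (V F n)} {v : V F n} (h : ∀ x ∈ s, om v x = 0) (c : F) :
    T v c ∈ fixer s := fun x hx => by simp [h x hx]

theorem Ei_mem_fixer {s : Set (V F n)} {p q : V F n} (hp : ∀ x ∈ s, om p x = 0)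
    (hq : ∀ x ∈ s, om q x = 0) : Ei p q ∈ fixer s :=
  mul_mem (mul_mem (T_mem_fixer (fun x hx => by simp [hp x hx, hq x hx]) _) (T_mem_fixer hp _))
    (T_mem_fixer hq _)

/-- The basis vectors of the pairs before the `j`th. -/
def low (j : ℕ) : Set (V F n) := {x | ∃ i : Fin n, (i : ℕ) < j ∧ (x = be i ∨ x = bf i)}

/-- The elements fixing the first `j` pairs of basis vectors. -/
def Gn (F : Type u) [Field F] (n j : ℕ) : Subgroup (Sp F n) := fixer (low j)

/-- The basis vectors of the pairs other than the `k`th. -/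
def others (k : Fin n) : Set (V F n) := {x | ∃ i : Fin n, i ≠ k ∧ (x = be i ∨ x = bf i)}

/-- The elements fixing all pairs of basis vectors but the `k`th. -/
def FS (k : Fin n) : Subgroup (Sp F n) := fixer (others k)

/-- The basis vectors fixed by the short root group at `i`. -/
def mset (i : Fin n) : Set (V F n) :=
  {x | ∃ k : Fin n, x = be k ∨ ((k : ℕ) ≠ i ∧ (k : ℕ) ≠ (i : ℕ) + 1 ∧ x = bf k)}

/-- The elements fixing the first half and all but two vectors of the second half. -/
def FM (i : Fin n) : Subgroup (Sp F n) := fixer (mset i)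

/-- Vectors with no coordinate before the `j`th pair. -/
def Vn (j : ℕ) (x : V F n) : Prop :=
  ∀ i : Fin n, (i : ℕ) < j → x (Sum.inl i) = 0 ∧ x (Sum.inr i) = 0

theorem Vn.low {j : ℕ} {x : V F n} (hx : Vn j x) : ∀ y ∈ low j, om x y = 0 := by
  rintro y ⟨i, hi, rfl | rfl⟩
  · rw [om_be_right, (hx i hi).2, neg_zero]
  · rw [om_bf_right, (hx i hi).1]

theorem Vn.of_low {j : ℕ} {x : V F n} (hx : ∀ y ∈ SpAm.low j, om x y = 0) : Vn j x := fun i hi =>
  ⟨by simpa [om_bf_right] using hx (bf i) ⟨i, hi, Or.inr rfl⟩,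
    by simpa [om_be_right] using hx (be i) ⟨i, hi, Or.inl rfl⟩⟩

theorem Vn.mono {i j : ℕ} (h : i ≤ j) {x : V F n} (hx : Vn j x) : Vn i x := fun l hl => hx l (by omega)

theorem Vn.add {j : ℕ} {x y : V F n} (hx : Vn j x) (hy : Vn j y) : Vn j (x + y) := fun i hi => by
  simp [(hx i hi).1, (hx i hi).2, (hy i hi).1, (hy i hi).2]

theorem Vn.smul {j : ℕ} {x : V F n} (hx : Vn j x) (c : F) : Vn j (c • x) := fun i hi => by
  simp [(hx i hi).1, (hx i hi).2]

theorem Vn.neg {j : ℕ} {x : V F n} (hx : Vn j x) : Vn j (-x) := fun i hi => by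
  simp [(hx i hi).1, (hx i hi).2]

theorem Vn.sub {j : ℕ} {x y : V F n} (hx : Vn j x) (hy : Vn j y) : Vn j (x - y) :=
  sub_eq_add_neg x y ▸ hx.add hy.neg

theorem Vn_zero {j : ℕ} : Vn j (0 : V F n) := fun _ _ => ⟨rfl, rfl⟩

theorem Vn_be {j : ℕ} {i : Fin n} (h : j ≤ i) : Vn j (be i : V F n) := fun l hl =>
  ⟨by rw [be_inl, if_neg (by intro e; subst e; omega)], be_inr _ _⟩

theorem Vn_bf {j : ℕ} {i : Fin n} (h : j ≤ i) : Vn j (bf i : V F n) := fun l hl =>
  ⟨bf_inl _ _, by rw [bf_inr, if_neg (by intro e; subst e; omega)]⟩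

theorem Vn.act {j : ℕ} {g : Sp F n} (hg : g ∈ Gn F n j) {x : V F n} (hx : Vn j x) :
    Vn j (SpAm.act g x) :=
  Vn.of_low fun y hy => by
    conv_lhs => rw [← hg y hy]
    rw [om_act, hx.low y hy]

theorem Vn.om_be {j : ℕ} {x : V F n} (hx : Vn j x) {i : Fin n} (hi : (i : ℕ) < j) :
    om (be i) x = 0 := by
  rw [om_swap, hx.low _ ⟨i, hi, Or.inl rfl⟩, neg_zero]

theorem Vn.om_bf {j : ℕ} {x : V F n} (hx : Vn j x) {i : Fin n} (hi : (i : ℕ) < j) :
    om (bf i) x = 0 := by
  rw [om_swap, hx.low _ ⟨i, hi, Or.inr rfl⟩, neg_zero]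

theorem T_mem_Gn {j : ℕ} {v : V F n} (hv : Vn j v) (c : F) : T v c ∈ Gn F n j :=
  T_mem_fixer hv.low c

theorem Ei_mem_Gn {j : ℕ} {p q : V F n} (hp : Vn j p) (hq : Vn j q) : Ei p q ∈ Gn F n j :=
  Ei_mem_fixer hp.low hq.low

theorem Gn_mono {i j : ℕ} (h : i ≤ j) : Gn F n j ≤ Gn F n i := fun g hg x ⟨l, hl, e⟩ =>
  hg x ⟨l, by omega, e⟩

theorem exists_om_ne {j : ℕ} {v : V F n} (hv : Vn j v) (h0 : v ≠ 0) : ∃ s, Vn j s ∧ om v s ≠ 0 := by
  obtain ⟨i, hi⟩ := Function.ne_iff.1 h0
  cases i with
  | inl i =>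
    refine ⟨bf i, Vn_bf ?_, by rwa [om_bf_right]⟩
    by_contra h
    exact hi (hv i (by omega)).1
  | inr i =>
    refine ⟨be i, Vn_be ?_, by simpa [om_be_right] using hi⟩
    by_contra h
    exact hi (hv i (by omega)).2

theorem exists_om_both {j : ℕ} {v w : V F n} (hv : Vn j v) (hw : Vn j w) (hv0 : v ≠ 0)
    (hind : ∀ c : F, w ≠ c • v) (p q : F) : ∃ s, Vn j s ∧ om v s = p ∧ om w s = q := by
  obtain ⟨s1, hs1, h1⟩ := exists_om_ne hv hv0
  set c := om w s1 / om v s1 with hc
  obtain ⟨s, hs, h⟩ := exists_om_ne (hw.sub (hv.smul c)) (sub_ne_zero.2 (hind c))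
  set s2 := s - (om v s / om v s1) • s1 with hs2
  have e1 : om v s2 = 0 := by simp [hs2, h1]
  have e2 : om w s2 ≠ 0 := by
    have : om w s2 = om (w - c • v) s := by
      simp [hs2, hc]; field_simp
    rwa [this]
  set r := (q - p / om v s1 * om w s1) / om w s2 with hr
  refine ⟨(p / om v s1) • s1 + r • s2, (hs1.smul _).add ((hs.sub (hs1.smul _)).smul _), ?_, ?_⟩
  · simp [e1, h1]
  · simp [hr, e2]

theorem exists_trans {j : ℕ} {v w : V F n} (hv : Vn j v) (hw : Vn j w) (hv0 : v ≠ 0) (hw0 : w ≠ 0) :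
    ∃ g ∈ Gn F n j, act g v = w := by
  have key : ∀ {v w : V F n}, Vn j v → Vn j w → om v w ≠ 0 → ∃ g ∈ Gn F n j, act g v = w := by
    intro v w hv hw h
    refine ⟨T (w - v) (1 / om w v), T_mem_Gn (hw.sub hv) _, ?_⟩
    have h' : om w v ≠ 0 := by rw [om_swap]; simpa using h
    simp [h']
  obtain ⟨s, hs, h1, h2⟩ : ∃ s, Vn j s ∧ om v s ≠ 0 ∧ om w s ≠ 0 := by
    by_cases hd : ∃ c : F, w = c • v
    · obtain ⟨c, rfl⟩ := hd
      obtain ⟨s, hs, h⟩ := exists_om_ne hv hv0
      refine ⟨s, hs, h, ?_⟩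
      simp only [om_smul_left]
      exact mul_ne_zero (fun e => hw0 (by simp [e])) h
    · push_neg at hd
      obtain ⟨s, hs, h1, h2⟩ := exists_om_both hv hw hv0 hd 1 1
      exact ⟨s, hs, by rw [h1]; exact one_ne_zero, by rw [h2]; exact one_ne_zero⟩
  obtain ⟨g, hg, eg⟩ := key hv hs h1
  obtain ⟨g', hg', eg'⟩ := key hs hw (by rw [om_swap]; simpa using h2)
  exact ⟨g' * g, mul_mem hg' hg, by rw [act_mul, eg, eg']⟩

theorem stab_decomp {k : Fin n} {g : Sp F n} (hg : g ∈ Gn F n k) (hgk : act g (be k) = be k) :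
    ∃ (x : V F n) (t : F), Vn ((k : ℕ) + 1) x ∧
      (T (be k) t)⁻¹ * (Ei (be k) x)⁻¹ * g ∈ Gn F n ((k : ℕ) + 1) := by
  set y := act g (bf k) with hy
  have hyV : Vn (k : ℕ) y := (Vn_bf le_rfl).act hg
  have hyk : y (Sum.inr k) = 1 := by
    have : om (be k) y = 1 := by
      rw [hy]; conv_lhs => rw [← hgk]
      rw [om_act, om_be_bf, if_pos rfl]
    rw [om_swap, om_be_right, neg_neg] at this
    exact this
  set t := y (Sum.inl k)
  set x := y - bf k - t • be k with hx
  have hxV : Vn ((k : ℕ) + 1) x := by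
    intro i hi
    rcases Nat.lt_or_ge i k with h | h
    · have := hyV i h
      have hne : i ≠ k := fun e => by subst e; omega
      simp [hx, this.1, this.2, be_inl, be_inr, bf_inl, bf_inr, hne]
    · obtain rfl : i = k := Fin.ext (by omega)
      simp [hx, hyk, t, be_inl, be_inr, bf_inl, bf_inr]
  have ha : om (be k) x = 0 := hxV.om_be (Nat.lt_succ_self _)
  have hb : om x (bf k) = 0 := by rw [om_swap, hxV.om_bf (Nat.lt_succ_self _), neg_zero]
  refine ⟨x, t, hxV, ?_⟩
  have hlow : (T (be k) t)⁻¹ * (Ei (be k) x)⁻¹ * g ∈ Gn F n k :=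
    mul_mem (mul_mem (inv_mem (T_mem_Gn (Vn_be le_rfl) _))
      (inv_mem (Ei_mem_Gn (Vn_be le_rfl) (hxV.mono (Nat.le_succ _))))) hg
  have hxa : om x (be k) = 0 := by rw [om_swap, ha, neg_zero]
  rintro z ⟨i, hi, e⟩
  rcases Nat.lt_or_ge i k with h | h
  · exact hlow z ⟨i, h, e⟩
  obtain rfl : i = k := Fin.ext (by omega)
  rw [mul_assoc, act_mul, act_mul]
  rcases e with rfl | rfl
  · rw [hgk, act_inv_eq (show act (Ei (be i) x) (be i) = be i by simp [act_Ei ha, hxa]),
      act_inv_eq (show act (T (be i) t) (be i) = be i by simp)]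
  · rw [← hy, act_inv_eq (y := y) (x := bf i + t • be i) (by
      rw [act_add, act_smul, act_Ei ha, act_Ei ha, om_be_bf, if_pos rfl, hb, hxa, om_self, hx]
      module),
      act_inv_eq (show act (T (be i) t) (bf i) = bf i + t • be i by simp [om_be_bf])]

theorem M_decomp {i j : Fin n} (hj : (j : ℕ) = (i : ℕ) + 1) {g : Sp F n} (hg : g ∈ FM i) :
    ∃ p q r : F, g = T (be i) p * T (be j) q * Ei (be i) (r • be j) := by
  have hij : i ≠ j := fun e => by subst e; omega
  have he : ∀ l, act g (be l) = be l := fun l => hg _ ⟨l, Or.inl rfl⟩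
  have hf : ∀ l, l ≠ i → l ≠ j → act g (bf l) = bf l := fun l h1 h2 =>
    hg _ ⟨l, Or.inr ⟨fun e => h1 (Fin.ext e), fun e => h2 (Fin.ext (by omega)), rfl⟩⟩
  have hd : ∀ l m, om (act g (bf m) - bf m) (be l) = 0 := fun l m => by
    rw [om_sub_left]
    conv_lhs => arg 1; rw [← he l]
    rw [om_act, sub_self]
  have hsymm : ∀ l m, om (act g (bf l) - bf l) (bf m) = om (act g (bf m) - bf m) (bf l) := by
    intro l m
    have h0 : om (act g (bf l) - bf l) (act g (bf m) - bf m) = 0 := by
      refine Finset.sum_eq_zero fun w _ => ?_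
      have h1 := hd w l
      have h2 := hd w m
      rw [om_be_right, neg_eq_zero] at h1 h2
      rw [h1, h2]; ring
    simp only [om_sub_left, om_sub_right, om_act, om_bf_bf] at h0 ⊢
    rw [om_swap (act g (bf m)) (bf l)]
    linear_combination -h0
  have hcol : ∀ m, act g (bf m) = bf m + om (act g (bf m) - bf m) (bf i) • be i
      + om (act g (bf m) - bf m) (bf j) • be j := by
    intro m
    rw [← sub_eq_zero]
    refine vec_ext_om fun z => ?_
    rw [om_zero_left]
    refine Finset.sum_eq_zero fun w _ => ?_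
    have h1 := hd w m
    rw [om_be_right, neg_eq_zero] at h1
    by_cases hwi : w = i
    · subst hwi; simp [be_inl, be_inr, bf_inl, bf_inr, om_bf_right, hij] at h1 ⊢
      exact Or.inl h1
    by_cases hwj : w = j
    · subst hwj; simp [be_inl, be_inr, bf_inl, bf_inr, om_bf_right, hij.symm] at h1 ⊢
      exact Or.inl h1
    have h2 := hsymm m w
    rw [hf w hwi hwj, sub_self, om_zero_left, om_bf_right] at h2
    simp [be_inl, be_inr, bf_inl, bf_inr, hwi, hwj] at h1 h2 ⊢
    rw [h1, h2]; ring
  refine ⟨om (act g (bf i) - bf i) (bf i), om (act g (bf j) - bf j) (bf j),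
    om (act g (bf i) - bf i) (bf j), Sp_ext_basis (fun l => ?_) (fun l => ?_)⟩
  all_goals have hA : ∀ r : F, om (be i : V F n) (r • be j) = 0 := fun r => by simp [om_be_be]
  · simp [he, act_Ei (hA _), om_be_be]
  · simp only [act_mul, act_Ei (hA _), act_T, om_add_right, om_smul_left, om_smul_right, om_be_bf,
      om_be_be]
    by_cases h1 : l = i
    · subst h1
      conv_lhs => rw [hcol l]
      simp [hij]; module
    by_cases h2 : l = j
    · subst h2
      conv_lhs => rw [hcol l]
      rw [hsymm l i]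
      simp [hij.symm]
    simp [hf l h1 h2, h1, h2]

end CfsgLib.Chev.CT.SpAm
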