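/-
Hyperbolic pairs: Weyl and torus elements, and the lifting calculus in a product with a group.
-/
import Cfsg.Agent.Lib.Chev.CT.SpAmalgam.Basic

set_option autoImplicit false

namespace CfsgLib.Chev.CT.SpAm

open Matrix

universe u v

variable {F : Type u} [Field F] {n : ℕ}

/-- The element sending `p` to `-d q` and `q` to `d⁻¹ p`. -/
def wd (p q : V F n) (d : F) : Sp F n := T p d⁻¹ * T q d * T p d⁻¹

/-- The element scaling `p` by `l` and `q` by `l⁻¹`. -/
def hG (p q : V F n) (l : F) : Sp F n := wd p q 1 * wd p q (-l)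

theorem wd_conj (g : Sp F n) (p q : V F n) (d : F) :
    g * wd p q d * g⁻¹ = wd (act g p) (act g q) d := by
  rw [wd, wd, ← T_conj, ← T_conj]; group

theorem hG_conj (g : Sp F n) (p q : V F n) (d : F) :
    g * hG p q d * g⁻¹ = hG (act g p) (act g q) d := by
  rw [hG, hG, ← wd_conj, ← wd_conj]; group

theorem wd_inv (p q : V F n) (d : F) : (wd p q d)⁻¹ = wd p q (-d) := by
  rw [wd, wd, inv_neg, _root_.mul_inv_rev, _root_.mul_inv_rev, T_inv, T_inv, mul_assoc]

section
variable {p q : V F n} (h : om p q = 1)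
include h

theorem act_wd_fst {d : F} (hd : d ≠ 0) : act (wd p q d) p = -(d • q) := by
  have h' : om q p = -1 := by rw [om_swap, h]
  simp [wd, h, h', hd]

theorem act_wd_snd {d : F} (hd : d ≠ 0) : act (wd p q d) q = d⁻¹ • p := by
  have h' : om q p = -1 := by rw [om_swap, h]
  simp [wd, h, h', hd]

theorem act_hG_fst {l : F} (hl : l ≠ 0) : act (hG p q l) p = l • p := by
  rw [hG, act_mul, act_wd_fst h (neg_ne_zero.2 hl), neg_smul, neg_neg, act_smul,
    act_wd_snd h one_ne_zero, inv_one, one_smul]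

theorem act_hG_snd {l : F} (hl : l ≠ 0) : act (hG p q l) q = l⁻¹ • q := by
  rw [hG, act_mul, act_wd_snd h (neg_ne_zero.2 hl), act_smul, act_wd_fst h one_ne_zero, one_smul,
    inv_neg, neg_smul, smul_neg, neg_neg]

end

theorem act_wd_other {p q z : V F n} (hp : om p z = 0) (hq : om q z = 0) (d : F) :
    act (wd p q d) z = z := by
  simp [wd, hp, hq]

theorem act_hG_other {p q z : V F n} (hp : om p z = 0) (hq : om q z = 0) (d : F) :
    act (hG p q d) z = z := by
  rw [hG, act_mul, act_wd_other hp hq, act_wd_other hp hq]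

theorem wd_mem_fixer {s : Set (V F n)} {p q : V F n} (hp : ∀ x ∈ s, om p x = 0)
    (hq : ∀ x ∈ s, om q x = 0) (d : F) : wd p q d ∈ fixer s :=
  fun x hx => act_wd_other (hp x hx) (hq x hx) d

theorem hG_mem_fixer {s : Set (V F n)} {p q : V F n} (hp : ∀ x ∈ s, om p x = 0)
    (hq : ∀ x ∈ s, om q x = 0) (d : F) : hG p q d ∈ fixer s :=
  fun x hx => act_hG_other (hp x hx) (hq x hx) d

theorem others_om {k : Fin n} {x : V F n} (hx : x ∈ others k) :
    om (be k) x = 0 ∧ om (bf k) x = 0 := by
  obtain ⟨i, hi, rfl | rfl⟩ := hx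
  · exact ⟨om_be_be _ _, by rw [om_bf_be, if_neg hi]⟩
  · exact ⟨by rw [om_be_bf, if_neg hi], om_bf_bf _ _⟩

theorem T_be_mem_FS (k : Fin n) (c : F) : T (be k) c ∈ FS k :=
  T_mem_fixer (fun _ hx => (others_om hx).1) c

theorem T_bf_mem_FS (k : Fin n) (c : F) : T (bf k) c ∈ FS k :=
  T_mem_fixer (fun _ hx => (others_om hx).2) c

theorem wd_mem_FS (k : Fin n) (d : F) : wd (be k) (bf k) d ∈ FS (F := F) k :=
  wd_mem_fixer (fun _ hx => (others_om hx).1) (fun _ hx => (others_om hx).2) d

theorem hG_mem_FS (k : Fin n) (d : F) : hG (be k) (bf k) d ∈ FS (F := F) k :=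
  hG_mem_fixer (fun _ hx => (others_om hx).1) (fun _ hx => (others_om hx).2) d

theorem FS_ext {k : Fin n} {g h : Sp F n} (hg : g ∈ FS k) (hh : h ∈ FS k)
    (e1 : act g (be k) = act h (be k)) (e2 : act g (bf k) = act h (bf k)) : g = h :=
  Sp_ext_basis
    (fun i => if e : i = k then e ▸ e1 else by
      rw [hg _ ⟨i, e, Or.inl rfl⟩, hh _ ⟨i, e, Or.inl rfl⟩])
    (fun i => if e : i = k then e ▸ e2 else by
      rw [hg _ ⟨i, e, Or.inr rfl⟩, hh _ ⟨i, e, Or.inr rfl⟩])

theorem span_of_others {k : Fin n} {v : V F n} (hv : ∀ z ∈ others k, om v z = 0) :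
    v = v (Sum.inl k) • be k + v (Sum.inr k) • bf k := by
  funext i
  cases i with
  | inl i =>
    by_cases e : i = k
    · subst e; simp [be_inl, bf_inl]
    · have := hv _ ⟨i, e, Or.inr rfl⟩
      rw [om_bf_right] at this
      simp [be_inl, bf_inl, e, this]
  | inr i =>
    by_cases e : i = k
    · subst e; simp [be_inr, bf_inr]
    · have := hv _ ⟨i, e, Or.inl rfl⟩
      rw [om_be_right, neg_eq_zero] at this
      simp [be_inr, bf_inr, e, this]

theorem FS_act_fst {k : Fin n} {g : Sp F n} (hg : g ∈ FS k) :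
    ∃ α β : F, act g (be k) = α • be k + β • bf k :=
  ⟨_, _, span_of_others fun z hz => by
    conv_lhs => rw [← hg z hz]
    rw [om_act, (others_om hz).1]⟩

theorem FS_fix_perp {k : Fin n} {h : Sp F n} (hh : h ∈ FS k) {x : V F n}
    (h1 : om (be k) x = 0) (h2 : om (bf k) x = 0) : act h x = x := by
  have hinv : ∀ v : V F n, (v = be k ∨ v = bf k) → ∃ α β : F, act h⁻¹ v = α • be k + β • bf k := by
    intro v hv
    refine ⟨_, _, span_of_others fun z hz => ?_⟩
    conv_lhs => rw [← (FS k).inv_mem hh z hz]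
    rw [om_act]
    rcases hv with rfl | rfl
    · exact (others_om hz).1
    · exact (others_om hz).2
  refine vec_ext_om fun z => ?_
  have key : ∀ w : V F n, (∃ i, w = be i ∨ w = bf i) → om (act h x) w = om x w := by
    rintro w ⟨i, hw⟩
    have e : om (act h x) w = om x (act h⁻¹ w) := by
      conv_rhs => rw [← om_act h, act_act_inv]
    rw [e]
    by_cases hi : i = k
    · subst hi
      obtain ⟨α, β, he⟩ := hinv w hw
      rw [he]
      rcases hw with rfl | rfl <;> simp [om_swap x (be i), om_swap x (bf i), h1, h2]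
    · rw [(FS k).inv_mem hh w ⟨i, hi, hw⟩]
  have e : act h x = x := by
    funext i
    cases i with
    | inl i => simpa [om_bf_right] using key _ ⟨i, Or.inr rfl⟩
    | inr i => simpa [om_be_right] using key _ ⟨i, Or.inl rfl⟩
  rw [e]

theorem commute_of_fix {k : Fin n} {g h : Sp F n} (hh : h ∈ FS k) (h1 : act g (be k) = be k)
    (h2 : act g (bf k) = bf k) : Commute g h := by
  have hx : ∀ z ∈ others k, om (be k) (act g z) = 0 ∧ om (bf k) (act g z) = 0 := fun z hz => by
    constructor
    · conv_lhs => rw [← h1]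
      rw [om_act, (others_om hz).1]
    · conv_lhs => rw [← h2]
      rw [om_act, (others_om hz).2]
  have hfix : ∀ z ∈ others k, act (g * h) z = act (h * g) z := fun z hz => by
    rw [act_mul, act_mul, hh z hz, FS_fix_perp hh (hx z hz).1 (hx z hz).2]
  have hb : ∀ v : V F n, (v = be k ∨ v = bf k) → act (g * h) v = act (h * g) v := by
    intro v hv
    have e : act g v = v := by rcases hv with rfl | rfl <;> assumption
    rw [act_mul, act_mul, e]
    have : act h v = (act h v) (Sum.inl k) • be k + (act h v) (Sum.inr k) • bf k :=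
      span_of_others fun z hz => by
        conv_lhs => rw [← hh z hz]
        rw [om_act]
        rcases hv with rfl | rfl
        · exact (others_om hz).1
        · exact (others_om hz).2
    rw [this]; simp [h1, h2]
  exact Sp_ext_basis
    (fun i => if e : i = k then e ▸ hb _ (Or.inl rfl) else hfix _ ⟨i, e, Or.inl rfl⟩)
    (fun i => if e : i = k then e ▸ hb _ (Or.inr rfl) else hfix _ ⟨i, e, Or.inr rfl⟩)

theorem fix_commute {g h : Sp F n} (hg : ∀ i, act g (be i) = be i)
    (hh : ∀ i, act h (be i) = be i) : Commute g h := by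
  refine Sp_ext_basis (fun i => by rw [act_mul, act_mul, hg, hh, hg]) (fun i => ?_)
  have key : ∀ {g h : Sp F n}, (∀ i, act g (be i) = be i) → (∀ i, act h (be i) = be i) →
      act g (act h (bf i) - bf i) = act h (bf i) - bf i := by
    intro g h hg hh
    set v := act h (bf i) - bf i with hv
    have hv0 : ∀ l, v (Sum.inr l) = 0 := fun l => by
      have : om v (be l) = 0 := by
        rw [hv, om_sub_left]; conv_lhs => arg 1; rw [← hh l]
        rw [om_act, sub_self]
      rwa [om_be_right, neg_eq_zero] at this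
    have e : v = ∑ l, v (Sum.inl l) • be l := by
      funext j
      cases j <;> simp [Finset.sum_apply, be_inl, be_inr, hv0]
    conv_lhs => rw [e]
    conv_rhs => rw [e]
    simp only [act, mulVec_sum, mulVec_smul]
    exact Finset.sum_congr rfl fun l _ => by rw [show g.1 *ᵥ be l = be l from hg l]
  have e1 := key hg hh
  have e2 := key hh hg
  rw [act_sub] at e1 e2
  rw [act_mul, act_mul, sub_eq_iff_eq_add.1 e1, sub_eq_iff_eq_add.1 e2]
  abel

/-- No nontrivial element of the subgroup lies over the identity. -/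
def Func {H : Type v} [Group H] (K : Subgroup (Sp F n × H)) : Prop := ∀ p ∈ K, p.1 = 1 → p = 1

variable {H : Type v} [Group H]

theorem Func.eq {K : Subgroup (Sp F n × H)} (hK : Func K) {p q : Sp F n × H} (hp : p ∈ K) (hq : q ∈ K)
    (e : p.1 = q.1) : p = q :=
  inv_mul_eq_one.1 (hK _ (mul_mem (inv_mem hp) hq) (by simp [e])) 

theorem Func.comm {K : Subgroup (Sp F n × H)} (hK : Func K) {p q : Sp F n × H} (hp : p ∈ K)
    (hq : q ∈ K) (e : Commute p.1 q.1) : Commute p q :=
  hK.eq (mul_mem hp hq) (mul_mem hq hp) e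

theorem Func.mono {K L : Subgroup (Sp F n × H)} (hK : Func K) (h : L ≤ K) : Func L :=
  fun p hp e => hK p (h hp) e

open Classical in
/-- An element of the subgroup over a given one. -/
noncomputable def lf (K : Subgroup (Sp F n × H)) (g : Sp F n) : Sp F n × H :=
  if h : ∃ p ∈ K, p.1 = g then h.choose else 1

theorem lf_spec {K : Subgroup (Sp F n × H)} {g : Sp F n}
    (h : g ∈ K.map (MonoidHom.fst (Sp F n) H)) : lf K g ∈ K ∧ (lf K g).1 = g := by
  have h' : ∃ p ∈ K, p.1 = g := h
  unfold lf
  rw [dif_pos h']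
  exact h'.choose_spec

end CfsgLib.Chev.CT.SpAm
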