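/-
The inductive step: lifts of the root elements at one index, and the Heisenberg rule for the short root group.
-/
import Cfsg.Agent.Lib.Chev.CT.SpAmalgam.Plane

set_option autoImplicit false

namespace CfsgLib.Chev.CT.SpAm

open Matrix

universe u v

/-- Graphs of compatible homomorphisms on the small subgroups. -/
structure Amal (F : Type u) [Field F] (n : ℕ) (H : Type v) [Group H] where
  LS : Fin n → Subgroup (Sp F n × H)
  LM : Fin n → Subgroup (Sp F n × H)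
  LS_proj : ∀ j, (LS j).map (MonoidHom.fst (Sp F n) H) = FS j
  LM_proj : ∀ i : Fin n, (i : ℕ) + 1 < n → (LM i).map (MonoidHom.fst (Sp F n) H) = FM i
  fSS : ∀ j l, j ≠ l → Func (LS j ⊔ LS l)
  fMM : ∀ i i' : Fin n, i ≠ i' → (i : ℕ) + 1 < n → (i' : ℕ) + 1 < n → Func (LM i ⊔ LM i')
  fMS : ∀ i j : Fin n, (i : ℕ) + 1 < n → Func (LM i ⊔ LS j)

variable {F : Type u} [Field F] {n : ℕ} {H : Type v} [Group H]

/-- The group generated by the lifts from the `j`th index on. -/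
def Amal.Gam (A : Amal F n H) (j : ℕ) : Subgroup (Sp F n × H) :=
  (⨆ (l : Fin n) (_ : j ≤ (l : ℕ)), A.LS l) ⊔
    ⨆ (i : Fin n) (_ : j ≤ (i : ℕ) ∧ (i : ℕ) + 1 < n), A.LM i

theorem Amal.Gam_le (A : Amal F n H) {j : ℕ} {K : Subgroup (Sp F n × H)}
    (hS : ∀ l : Fin n, j ≤ (l : ℕ) → A.LS l ≤ K)
    (hM : ∀ i : Fin n, j ≤ (i : ℕ) → (i : ℕ) + 1 < n → A.LM i ≤ K) : A.Gam j ≤ K :=
  sup_le (iSup₂_le hS) (iSup₂_le fun i hi => hM i hi.1 hi.2)

theorem Amal.LS_le (A : Amal F n H) {j : ℕ} {l : Fin n} (h : j ≤ (l : ℕ)) : A.LS l ≤ A.Gam j :=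
  le_sup_of_le_left (le_iSup₂_of_le l h le_rfl)

theorem Amal.LM_le (A : Amal F n H) {j : ℕ} {i : Fin n} (h : j ≤ (i : ℕ)) (h' : (i : ℕ) + 1 < n) :
    A.LM i ≤ A.Gam j :=
  le_sup_of_le_right (le_iSup₂_of_le i ⟨h, h'⟩ le_rfl)

theorem Amal.LS_fst (A : Amal F n H) {l : Fin n} {p : Sp F n × H} (hp : p ∈ A.LS l) : p.1 ∈ FS l :=
  A.LS_proj l ▸ Subgroup.mem_map_of_mem (MonoidHom.fst (Sp F n) H) hp

theorem Amal.LM_fst (A : Amal F n H) {i : Fin n} (hi : (i : ℕ) + 1 < n) {p : Sp F n × H}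
    (hp : p ∈ A.LM i) : p.1 ∈ FM i :=
  A.LM_proj i hi ▸ Subgroup.mem_map_of_mem (MonoidHom.fst (Sp F n) H) hp

/-- The two extra identities at consecutive indices that replace a third field element. -/
def Amal.Deg (A : Amal F n H) (i j : Fin n) : Prop :=
  ∀ l : Fin n, (l : ℕ) = (j : ℕ) + 1 → ∃ m q q' qf W E : Sp F n × H,
    (m ∈ A.LM i ∧ m.1 = Ei (be i) (be j)) ∧ (W ∈ A.LS i ∧ W.1 = wd (be i) (bf i) (-1)) ∧
    (q ∈ A.Gam (j : ℕ) ∧ act q.1 (be j) = be l) ∧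
    (q' ∈ A.Gam (j : ℕ) ∧ act q'.1 (be j) = be j + be l) ∧
    (qf ∈ A.Gam (j : ℕ) ∧ act qf.1 (be j) = bf j) ∧ E ∈ A.Gam (j : ℕ) ∧
    m * (q * m * q⁻¹) = q' * m * q'⁻¹ ∧
    (qf * m * qf⁻¹ * (W⁻¹ * m * W) * (qf * m * qf⁻¹))⁻¹ * (q * m * q⁻¹) *
      (qf * m * qf⁻¹ * (W⁻¹ * m * W) * (qf * m * qf⁻¹)) = E

/-- The hypotheses of one inductive step. -/
structure Ctx (F : Type u) [Field F] (n : ℕ) (H : Type v) [Group H] where
  A : Amal F n H
  k : Fin n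
  k' : Fin n
  hk : (k' : ℕ) = (k : ℕ) + 1
  hF : (∃ c : F, c ≠ 0 ∧ c ≠ 1) ∨ A.Deg k k'
  hfun : Func (A.Gam (k' : ℕ))
  hproj : (A.Gam (k' : ℕ)).map (MonoidHom.fst (Sp F n) H) = Gn F n (k' : ℕ)
  hproj' : (A.Gam ((k' : ℕ) + 1)).map (MonoidHom.fst (Sp F n) H) = Gn F n ((k' : ℕ) + 1)

namespace Ctx

variable (C : Ctx F n H)

theorem hk1 : (C.k : ℕ) + 1 < n := C.hk ▸ C.k'.isLt
theorem hne : C.k ≠ C.k' := fun e => by have := C.hk; rw [← e] at this; omega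
theorem hlt : (C.k : ℕ) < (C.k' : ℕ) := by have := C.hk; omega

/-- The first vector. -/
def a : V F n := be C.k
/-- The partner of the first vector. -/
def f : V F n := bf C.k
/-- The next vector. -/
def b : V F n := be C.k'
/-- The partner of the next vector. -/
def f' : V F n := bf C.k'

theorem Va : Vn (C.k : ℕ) C.a := Vn_be le_rfl
theorem Vf : Vn (C.k : ℕ) C.f := Vn_bf le_rfl
theorem Vb : Vn (C.k' : ℕ) C.b := Vn_be le_rfl
theorem Vf' : Vn (C.k' : ℕ) C.f' := Vn_bf le_rfl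
theorem om_af : om C.a C.f = 1 := by simp [a, f, om_be_bf]
theorem om_fa : om C.f C.a = -1 := by simp [a, f, om_bf_be]
theorem om_bf' : om C.b C.f' = 1 := by simp [b, f', om_be_bf]
theorem om_f'b : om C.f' C.b = -1 := by simp [b, f', om_bf_be]
theorem om_a {x : V F n} (hx : Vn (C.k' : ℕ) x) : om C.a x = 0 := hx.om_be C.hlt
theorem om_f {x : V F n} (hx : Vn (C.k' : ℕ) x) : om C.f x = 0 := hx.om_bf C.hlt
theorem om_a' {x : V F n} (hx : Vn (C.k' : ℕ) x) : om x C.a = 0 := by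
  rw [om_swap, C.om_a hx, neg_zero]
theorem om_f_ {x : V F n} (hx : Vn (C.k' : ℕ) x) : om x C.f = 0 := by
  rw [om_swap, C.om_f hx, neg_zero]
theorem om_b {y : V F n} (hy : Vn ((C.k' : ℕ) + 1) y) : om C.b y = 0 := hy.om_be (Nat.lt_succ_self _)
theorem om_f'' {y : V F n} (hy : Vn ((C.k' : ℕ) + 1) y) : om C.f' y = 0 :=
  hy.om_bf (Nat.lt_succ_self _)
theorem om_b' {y : V F n} (hy : Vn ((C.k' : ℕ) + 1) y) : om y C.b = 0 := by
  rw [om_swap, C.om_b hy, neg_zero]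
theorem om_f''' {y : V F n} (hy : Vn ((C.k' : ℕ) + 1) y) : om y C.f' = 0 := by
  rw [om_swap, C.om_f'' hy, neg_zero]
theorem b_ne : C.b ≠ 0 := fun e => by have := C.om_bf'; simp [e] at this
theorem f'_ne : C.f' ≠ 0 := fun e => by have := C.om_bf'; simp [e] at this
theorem om_ab : om C.a C.b = 0 := C.om_a C.Vb

/-- The lifts from the next index on. -/
def Gp : Subgroup (Sp F n × H) := C.A.Gam (C.k' : ℕ)

theorem fst_Gp {q : Sp F n × H} (hq : q ∈ C.Gp) : q.1 ∈ Gn F n (C.k' : ℕ) :=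
  C.hproj ▸ Subgroup.mem_map_of_mem (MonoidHom.fst (Sp F n) H) hq

theorem fix_a {q : Sp F n × H} (hq : q ∈ C.Gp) : act q.1 C.a = C.a :=
  C.fst_Gp hq _ ⟨C.k, C.hlt, Or.inl rfl⟩

theorem fix_f {q : Sp F n × H} (hq : q ∈ C.Gp) : act q.1 C.f = C.f :=
  C.fst_Gp hq _ ⟨C.k, C.hlt, Or.inr rfl⟩

/-- The chosen lift. -/
noncomputable def lg (g : Sp F n) : Sp F n × H := lf C.Gp g

theorem lg_spec {g : Sp F n} (hg : g ∈ Gn F n (C.k' : ℕ)) : C.lg g ∈ C.Gp ∧ (C.lg g).1 = g :=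
  lf_spec (C.hproj.symm ▸ hg)

theorem eqG {p q : Sp F n × H} (hp : p ∈ C.Gp) (hq : q ∈ C.Gp) (e : p.1 = q.1) : p = q :=
  C.hfun.eq hp hq e

theorem S'_le : C.A.LS C.k' ≤ C.Gp := C.A.LS_le le_rfl

/-- The first pair of small subgroups. -/
def L1 : Subgroup (Sp F n × H) := C.A.LM C.k ⊔ C.A.LS C.k'
/-- The second pair of small subgroups. -/
def L2 : Subgroup (Sp F n × H) := C.A.LM C.k ⊔ C.A.LS C.k

theorem fL1 : Func C.L1 := C.A.fMS _ _ C.hk1
theorem fL2 : Func C.L2 := C.A.fMS _ _ C.hk1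
theorem M1 : C.A.LM C.k ≤ C.L1 := le_sup_left
theorem M2 : C.A.LM C.k ≤ C.L2 := le_sup_left
theorem S1 : C.A.LS C.k' ≤ C.L1 := le_sup_right
theorem S2 : C.A.LS C.k ≤ C.L2 := le_sup_right
theorem fS : Func (C.A.LS C.k) := C.fL2.mono C.S2
theorem fM : Func (C.A.LM C.k) := C.fL2.mono C.M2

theorem mset_om {x : V F n} (hx : x ∈ mset C.k) : om C.a x = 0 ∨ x = C.f := by
  obtain ⟨l, rfl | ⟨h1, h2, rfl⟩⟩ := hx
  · exact Or.inl (om_be_be _ _)
  · left; rw [a, om_be_bf, if_neg (fun e => h1 (by rw [e]))]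

theorem om_mset_a {x : V F n} (hx : x ∈ mset C.k) : om C.a x = 0 := by
  obtain ⟨l, rfl | ⟨h1, h2, rfl⟩⟩ := hx
  · exact om_be_be _ _
  · rw [a, om_be_bf, if_neg (fun e => h1 (by rw [e]))]

theorem om_mset_b {x : V F n} (hx : x ∈ mset C.k) : om C.b x = 0 := by
  obtain ⟨l, rfl | ⟨h1, h2, rfl⟩⟩ := hx
  · exact om_be_be _ _
  · rw [b, om_be_bf, if_neg (fun e => h2 (by rw [e]; exact C.hk))]

/-- The long root element at the first vector. -/
noncomputable def aA (t : F) : Sp F n × H := lf (C.A.LS C.k) (T C.a t)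
/-- The long root element at the partner. -/
noncomputable def aF (t : F) : Sp F n × H := lf (C.A.LS C.k) (T C.f t)
/-- The Weyl element. -/
noncomputable def W : Sp F n × H := lf (C.A.LS C.k) (wd C.a C.f (-1))
/-- The torus. -/
noncomputable def hh (l : F) : Sp F n × H := lf (C.A.LS C.k) (hG C.a C.f l)
/-- The short root element. -/
noncomputable def m (r : F) : Sp F n × H := lf (C.A.LM C.k) (Ei C.a (r • C.b))
/-- The long root element at the next vector. -/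
noncomputable def Tb (t : F) : Sp F n × H := C.lg (T C.b t)

theorem lfS_spec {g : Sp F n} (hg : g ∈ FS C.k) :
    lf (C.A.LS C.k) g ∈ C.A.LS C.k ∧ (lf (C.A.LS C.k) g).1 = g :=
  lf_spec ((C.A.LS_proj _).symm ▸ hg)

theorem aA_spec (t : F) : C.aA t ∈ C.A.LS C.k ∧ (C.aA t).1 = T C.a t := C.lfS_spec (T_be_mem_FS _ _)
theorem aF_spec (t : F) : C.aF t ∈ C.A.LS C.k ∧ (C.aF t).1 = T C.f t := C.lfS_spec (T_bf_mem_FS _ _)
theorem W_spec : C.W ∈ C.A.LS C.k ∧ C.W.1 = wd C.a C.f (-1) := C.lfS_spec (wd_mem_FS _ _)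
theorem hh_spec (l : F) : C.hh l ∈ C.A.LS C.k ∧ (C.hh l).1 = hG C.a C.f l :=
  C.lfS_spec (hG_mem_FS _ _)

theorem m_spec (r : F) : C.m r ∈ C.A.LM C.k ∧ (C.m r).1 = Ei C.a (r • C.b) :=
  lf_spec ((C.A.LM_proj _ C.hk1).symm ▸
    Ei_mem_fixer (fun _ hx => C.om_mset_a hx) (fun _ hx => by simp [C.om_mset_b hx]))

theorem Tb_spec (t : F) : C.Tb t ∈ C.A.LM C.k ∧ C.Tb t ∈ C.Gp ∧ (C.Tb t).1 = T C.b t := by
  obtain ⟨h1, h2⟩ := C.lg_spec (T_mem_Gn C.Vb t)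
  have hS : T C.b t ∈ (C.A.LS C.k').map (MonoidHom.fst (Sp F n) H) :=
    (C.A.LS_proj _).symm ▸ T_be_mem_FS _ _
  have hM : T C.b t ∈ (C.A.LM C.k).map (MonoidHom.fst (Sp F n) H) :=
    (C.A.LM_proj _ C.hk1).symm ▸ T_mem_fixer (fun _ hx => C.om_mset_b hx) _
  obtain ⟨p, hp, ep⟩ := hS
  obtain ⟨q, hq, eq⟩ := hM
  have e1 : C.Tb t = p := C.eqG h1 (C.S'_le hp) (h2.trans ep.symm)
  have e2 : p = q := C.fL1.eq (C.S1 hp) (C.M1 hq) (ep.trans eq.symm)
  exact ⟨e1 ▸ e2 ▸ hq, h1, h2⟩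

theorem aA_mem_M (t : F) : C.aA t ∈ C.A.LM C.k := by
  have hM : T C.a t ∈ (C.A.LM C.k).map (MonoidHom.fst (Sp F n) H) :=
    (C.A.LM_proj _ C.hk1).symm ▸ T_mem_fixer (fun _ hx => C.om_mset_a hx) _
  obtain ⟨q, hq, eq⟩ := hM
  have e : C.aA t = q := C.fL2.eq (C.S2 (C.aA_spec t).1) (C.M2 hq) ((C.aA_spec t).2.trans eq.symm)
  exact e ▸ hq

theorem act_Sk {g : Sp F n × H} (hg : g ∈ C.A.LS C.k) {x : V F n} (hx : Vn (C.k' : ℕ) x) :
    act g.1 x = x :=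
  FS_fix_perp (C.A.LS_fst hg) (C.om_a hx) (C.om_f hx)

/-- The elements of the `k`th small subgroup commute with the later lifts. -/
theorem S_comm {g q : Sp F n × H} (hg : g ∈ C.A.LS C.k) (hq : q ∈ C.Gp) : Commute q g := by
  have hle : C.Gp ≤ Subgroup.centralizer (C.A.LS C.k : Set (Sp F n × H)) := by
    refine C.A.Gam_le (fun l hl p hp => ?_) (fun i hi hi' p hp => ?_) <;>
      refine Subgroup.mem_centralizer_iff.2 fun s hs => ?_
    · have hne : C.k ≠ l := fun e => by have := C.hlt; rw [← e] at hl; omega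
      have hpG : p ∈ C.Gp := C.A.LS_le hl hp
      exact ((C.A.fSS _ _ hne).comm (Subgroup.mem_sup_right hp) (Subgroup.mem_sup_left hs)
        (commute_of_fix (C.A.LS_fst hs) (C.fix_a hpG) (C.fix_f hpG))).eq.symm
    · have hpG : p ∈ C.Gp := C.A.LM_le hi hi' hp
      exact ((C.A.fMS i C.k hi').comm (Subgroup.mem_sup_left hp) (Subgroup.mem_sup_right hs)
        (commute_of_fix (C.A.LS_fst hs) (C.fix_a hpG) (C.fix_f hpG))).eq.symm
  exact (Subgroup.mem_centralizer_iff.1 (hle hq) g hg).symm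

theorem aA_add (s t : F) : C.aA s * C.aA t = C.aA (s + t) :=
  C.fS.eq (mul_mem (C.aA_spec s).1 (C.aA_spec t).1) (C.aA_spec _).1
    (by rw [Prod.fst_mul, (C.aA_spec s).2, (C.aA_spec t).2, (C.aA_spec _).2, T_add])

theorem aA_zero : C.aA 0 = 1 :=
  C.fS.eq (C.aA_spec 0).1 (one_mem _) (by rw [(C.aA_spec 0).2, T_zero]; rfl)

theorem aA_inv (t : F) : (C.aA t)⁻¹ = C.aA (-t) :=
  inv_eq_of_mul_eq_one_right (by rw [C.aA_add, add_neg_cancel, C.aA_zero])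

theorem m_zero : C.m 0 = 1 :=
  C.fM.eq (C.m_spec 0).1 (one_mem _) (by rw [(C.m_spec 0).2, zero_smul, Ei_zero]; rfl)

theorem m_add (r s : F) : C.m r * C.m s = C.m (r + s) :=
  C.fM.eq (mul_mem (C.m_spec r).1 (C.m_spec s).1) (C.m_spec _).1 (by
    rw [Prod.fst_mul, (C.m_spec r).2, (C.m_spec s).2, (C.m_spec _).2,
      Ei_mul (by simp [C.om_ab]) (by simp [C.om_ab])]
    simp [add_smul])

theorem M_comm {p q : Sp F n × H} (hp : p ∈ C.A.LM C.k) (hq : q ∈ C.A.LM C.k) : Commute p q :=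
  C.fM.comm hp hq (fix_commute (fun l => C.A.LM_fst C.hk1 hp _ ⟨l, Or.inl rfl⟩)
    (fun l => C.A.LM_fst C.hk1 hq _ ⟨l, Or.inl rfl⟩))

/-- The stabiliser of the next vector centralises the short root group. -/
theorem stab_comm {q : Sp F n × H} (hq : q ∈ C.Gp) (hb : act q.1 C.b = C.b) (r : F) :
    Commute (C.m r) q := by
  obtain ⟨x, t, hx, hrest⟩ := stab_decomp (C.fst_Gp hq) hb
  have hrest' := hrest
  rw [← C.hproj'] at hrest'
  obtain ⟨q'', hq'', e⟩ := hrest'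
  have hle'' : C.A.Gam ((C.k' : ℕ) + 1) ≤ Subgroup.centralizer {C.m r} := by
    refine C.A.Gam_le (fun l hl p hp => ?_) (fun i hi hi' p hp => ?_) <;>
      refine Subgroup.mem_centralizer_singleton_iff.2 ?_
    · have hfix : ∀ v : V F n, (v = be l ∨ v = bf l) → act (C.m r).1 v = v := by
        intro v hv
        have := C.hk
        rcases hv with rfl | rfl
        · exact C.A.LM_fst C.hk1 (C.m_spec r).1 _ ⟨l, Or.inl rfl⟩
        · exact C.A.LM_fst C.hk1 (C.m_spec r).1 _ ⟨l, Or.inr ⟨by omega, by omega, rfl⟩⟩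
      exact ((C.A.fMS C.k l C.hk1).comm (Subgroup.mem_sup_left (C.m_spec r).1)
        (Subgroup.mem_sup_right hp)
        (commute_of_fix (C.A.LS_fst hp) (hfix _ (Or.inl rfl)) (hfix _ (Or.inr rfl)))).eq.symm
    · have := C.hk
      have hne : C.k ≠ i := fun e => by rw [← e] at hi; omega
      exact ((C.A.fMM C.k i hne C.hk1 hi').comm (Subgroup.mem_sup_left (C.m_spec r).1)
        (Subgroup.mem_sup_right hp) (fix_commute (fun l => C.A.LM_fst C.hk1 (C.m_spec r).1 _ ⟨l, Or.inl rfl⟩)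
          (fun l => C.A.LM_fst hi' hp _ ⟨l, Or.inl rfl⟩))).eq.symm
  have hc : ∀ p ∈ C.A.Gam ((C.k' : ℕ) + 1), Commute (C.m r) p := fun p hp =>
    (Subgroup.mem_centralizer_singleton_iff.1 (hle'' hp)).symm
  have hsub : C.A.Gam ((C.k' : ℕ) + 1) ≤ C.Gp :=
    C.A.Gam_le (fun l hl => C.A.LS_le (by omega)) (fun i hi hi' => C.A.LM_le (by omega) hi')
  have hbe : ∀ x : V F n, Vn ((C.k' : ℕ) + 1) x → om (be C.k') x = 0 := fun x hx => C.om_b hx
  have hE : ∀ x : V F n, Vn ((C.k' : ℕ) + 1) x → Commute (C.m r) (C.lg (Ei C.b x)) := by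
    intro x hx
    have hEG : Ei C.b x ∈ Gn F n (C.k' : ℕ) := Ei_mem_Gn C.Vb (hx.mono (Nat.le_succ _))
    obtain ⟨hl, hle⟩ := C.lg_spec hEG
    by_cases h0 : x = 0
    · have : C.lg (Ei C.b x) = 1 := C.eqG hl (one_mem _) (by rw [hle, h0, Ei_zero]; rfl)
      rw [this]; exact Commute.one_right _
    obtain ⟨j, hj⟩ := Function.ne_iff.1 h0
    have hn2 : (C.k' : ℕ) + 1 < n := by
      by_contra hcon
      cases j with
      | inl j => exact hj (hx j (by omega)).1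
      | inr j => exact hj (hx j (by omega)).2
    let k2 : Fin n := ⟨(C.k' : ℕ) + 1, hn2⟩
    have hb2 : (be k2 : V F n) ≠ 0 := fun e0 => by
      have := om_be_bf (F := F) k2 k2; simp [e0] at this
    obtain ⟨g, hg, eg⟩ := exists_trans (Vn_be (le_refl (k2 : ℕ))) hx hb2 h0
    have hg' := hg
    change g ∈ Gn F n ((C.k' : ℕ) + 1) at hg'
    rw [← C.hproj'] at hg'
    obtain ⟨G, hG, eG⟩ := hg'
    change G.1 = g at eG
    have hEM : Ei C.b (be k2) ∈ (C.A.LM C.k').map (MonoidHom.fst (Sp F n) H) := by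
      rw [C.A.LM_proj C.k' hn2]
      refine Ei_mem_fixer (fun z hz => ?_) (fun z hz => ?_) <;> obtain ⟨l, rfl | ⟨h1, h2, rfl⟩⟩ := hz
      · exact om_be_be _ _
      · rw [b, om_be_bf, if_neg (fun e => h1 (by rw [e]))]
      · exact om_be_be _ _
      · rw [om_be_bf, if_neg (fun e => h2 (by rw [e]))]
    obtain ⟨P, hP, eP⟩ := hEM
    change P.1 = _ at eP
    have hcP : Commute (C.m r) P :=
      (C.A.fMM C.k C.k' C.hne C.hk1 hn2).comm (Subgroup.mem_sup_left (C.m_spec r).1)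
        (Subgroup.mem_sup_right hP) (fix_commute (fun l => C.A.LM_fst C.hk1 (C.m_spec r).1 _ ⟨l, Or.inl rfl⟩)
          (fun l => C.A.LM_fst hn2 hP _ ⟨l, Or.inl rfl⟩))
    have hPG : P ∈ C.Gp := C.A.LM_le le_rfl hn2 hP
    have e : C.lg (Ei C.b x) = G * P * G⁻¹ := by
      refine C.eqG hl (mul_mem (mul_mem (hsub hG) hPG) (inv_mem (hsub hG))) ?_
      rw [hle, Prod.fst_mul, Prod.fst_mul, Prod.fst_inv, eP, eG, Ei_conj, eg,
        show act g C.b = C.b from hg C.b ⟨C.k', Nat.lt_succ_self _, Or.inl rfl⟩]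
    rw [e]
    exact ((hc G hG).mul_right hcP).mul_right (hc G hG).inv_right
  obtain ⟨hE1, hE2⟩ := C.lg_spec (Ei_mem_Gn C.Vb (hx.mono (Nat.le_succ _)))
  have e' : q = C.lg (Ei C.b x) * C.Tb t * q'' := by
    refine C.eqG hq (mul_mem (mul_mem hE1 (C.Tb_spec t).2.1) (hsub hq'')) ?_
    change q''.1 = _ at e
    rw [Prod.fst_mul, Prod.fst_mul, hE2, (C.Tb_spec t).2.2, e]
    show q.1 = Ei (be C.k') x * T (be C.k') t * _
    group
  rw [e']
  exact ((hE x hx).mul_right (C.M_comm (C.m_spec r).1 (C.Tb_spec t).1)).mul_right (hc q'' hq'')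

open Classical in
/-- The short root element attached to a vector. -/
noncomputable def u (x : V F n) : Sp F n × H :=
  if h : ∃ g ∈ Gn F n (C.k' : ℕ), act g C.b = x then C.lg h.choose * C.m 1 * (C.lg h.choose)⁻¹
  else 1

theorem u_spec {q : Sp F n × H} (hq : q ∈ C.Gp) {x : V F n} (e : act q.1 C.b = x) :
    C.u x = q * C.m 1 * q⁻¹ := by
  have h : ∃ g ∈ Gn F n (C.k' : ℕ), act g C.b = x := ⟨q.1, C.fst_Gp hq, e⟩
  unfold u
  rw [dif_pos h]
  obtain ⟨h1, h2⟩ := C.lg_spec h.choose_spec.1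
  set p := C.lg h.choose
  have hb : act (q⁻¹ * p).1 C.b = C.b := by
    rw [Prod.fst_mul, Prod.fst_inv, act_mul, h2, h.choose_spec.2]
    exact act_inv_eq e
  have hc := C.stab_comm (mul_mem (inv_mem hq) h1) hb 1
  calc p * C.m 1 * p⁻¹ = q * ((q⁻¹ * p) * C.m 1) * (q⁻¹ * p)⁻¹ * q⁻¹ := by group
    _ = _ := by rw [← hc.eq]; group

theorem u_zero : C.u 0 = 1 := by
  unfold u
  rw [dif_neg]
  rintro ⟨g, -, e⟩
  exact C.b_ne (act_inj g (by rw [e, act_zero]))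

theorem exists_q {x : V F n} (hx : Vn (C.k' : ℕ) x) (h0 : x ≠ 0) :
    ∃ q ∈ C.Gp, act q.1 C.b = x := by
  obtain ⟨g, hg, e⟩ := exists_trans C.Vb hx C.b_ne h0
  exact ⟨C.lg g, (C.lg_spec hg).1, by rw [(C.lg_spec hg).2, e]⟩

theorem u_conj {q : Sp F n × H} (hq : q ∈ C.Gp) {x : V F n} (hx : Vn (C.k' : ℕ) x) :
    q * C.u x * q⁻¹ = C.u (act q.1 x) := by
  by_cases h0 : x = 0
  · simp [h0, C.u_zero]
  obtain ⟨p, hp, e⟩ := C.exists_q hx h0
  rw [C.u_spec hp e, C.u_spec (mul_mem hq hp) (show act (q * p).1 C.b = act q.1 x by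
    rw [Prod.fst_mul, act_mul, e])]
  group

theorem u_fst {x : V F n} (hx : Vn (C.k' : ℕ) x) : (C.u x).1 = Ei C.a x := by
  by_cases h0 : x = 0
  · simp [h0, C.u_zero]
  obtain ⟨p, hp, e⟩ := C.exists_q hx h0
  rw [C.u_spec hp e, Prod.fst_mul, Prod.fst_mul, Prod.fst_inv, (C.m_spec 1).2, one_smul, Ei_conj,
    C.fix_a hp, e]

theorem u_rb (r : F) : C.u (r • C.b) = C.m r := by
  by_cases hr : r = 0
  · simp [hr, C.u_zero, C.m_zero]
  have hS : hG C.b C.f' r ∈ (C.A.LS C.k').map (MonoidHom.fst (Sp F n) H) :=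
    (C.A.LS_proj _).symm ▸ hG_mem_FS _ _
  obtain ⟨p, hp, ep⟩ := hS
  change p.1 = _ at ep
  have eb : act p.1 C.b = r • C.b := by rw [ep, act_hG_fst C.om_bf' hr]
  rw [C.u_spec (C.S'_le hp) eb]
  refine C.fL1.eq (mul_mem (mul_mem (C.S1 hp) (C.M1 (C.m_spec 1).1)) (inv_mem (C.S1 hp)))
    (C.M1 (C.m_spec r).1) ?_
  rw [Prod.fst_mul, Prod.fst_mul, Prod.fst_inv, (C.m_spec 1).2, (C.m_spec r).2, one_smul, Ei_conj,
    C.fix_a (C.S'_le hp), eb]

theorem u_b : C.u C.b = C.m 1 := by simpa using C.u_rb 1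

theorem u_smul {q : Sp F n × H} (hq : q ∈ C.Gp) {x : V F n} (e : act q.1 C.b = x) (r : F) :
    C.u (r • x) = q * C.m r * q⁻¹ := by
  rw [← C.u_rb, C.u_conj hq (C.Vb.smul r), act_smul, e]

theorem aA_u {x : V F n} (hx : Vn (C.k' : ℕ) x) (t : F) : Commute (C.aA t) (C.u x) := by
  by_cases h0 : x = 0
  · rw [h0, C.u_zero]; exact Commute.one_right _
  obtain ⟨p, hp, e⟩ := C.exists_q hx h0
  rw [C.u_spec hp e]
  have h := (C.S_comm (C.aA_spec t).1 hp).symm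
  exact (h.mul_right (C.M_comm (C.aA_mem_M t) (C.m_spec 1).1)).mul_right h.inv_right

theorem u_plane {x y : V F n} (hx : Vn (C.k' : ℕ) x) (hy : Vn (C.k' : ℕ) y) (hc : om x y ≠ 0) :
    C.u x * C.u y = C.u (x + y) * C.aA (om x y) := by
  set c := om x y with hcdef
  have h0 : x ≠ 0 := fun e => hc (by simp [hcdef, e])
  obtain ⟨q1, hq1, e1⟩ := C.exists_q hx h0
  set y' := c⁻¹ • act q1.1⁻¹ y with hy'
  have hy'V : Vn (C.k' : ℕ) y' := (hy.act (inv_mem (C.fst_Gp hq1))).smul _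
  have hby : om C.b y' = 1 := by
    rw [hy', om_smul_right, ← om_act q1.1, e1, act_act_inv, inv_mul_cancel₀ hc]
  set z := y' - C.f' - y' (Sum.inl C.k') • C.b with hz
  have hyk : y' (Sum.inr C.k') = 1 := by
    rw [b, om_swap, om_be_right, neg_neg] at hby
    exact hby
  have hzV : Vn ((C.k' : ℕ) + 1) z := fun i hi => by
    rcases Nat.lt_or_ge i C.k' with h | h
    · have hne : i ≠ C.k' := fun e => by subst e; omega
      simp [hz, b, f', be_inl, be_inr, bf_inl, bf_inr, hne, (hy'V i h).1, (hy'V i h).2]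
    · obtain rfl : i = C.k' := Fin.ext (by omega)
      simp [hz, b, f', be_inl, be_inr, bf_inl, bf_inr, hyk]
  obtain ⟨hg1, hg2⟩ := C.lg_spec (mul_mem (Ei_mem_Gn C.Vb (hzV.mono (Nat.le_succ _)))
    (T_mem_Gn C.Vb (y' (Sum.inl C.k'))))
  set q2 := C.lg (Ei C.b z * T C.b (y' (Sum.inl C.k')))
  have hQb : act q2.1 C.b = C.b := by
    rw [hg2, act_mul, act_T, om_self, act_Ei (C.om_b hzV)]
    simp [C.om_b' hzV, act_Ei (C.om_b hzV)]
  have hQf : act q2.1 C.f' = y' := by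
    rw [hg2, act_mul, act_T, C.om_bf', mul_one, act_add, act_smul, act_Ei (C.om_b hzV),
      act_Ei (C.om_b hzV), C.om_bf', C.om_b' hzV, C.om_f''' hzV, om_self, hz]
    module
  set Q := q1 * q2
  have hQ : Q ∈ C.Gp := mul_mem hq1 hg1
  have ex : act Q.1 C.b = x := by rw [Prod.fst_mul, act_mul, hQb, e1]
  have ey : act Q.1 (c • C.f') = y := by
    rw [Prod.fst_mul, act_mul, act_smul, hQf, hy', smul_inv_smul₀ hc, act_act_inv]
  have hS : ∀ g, g ∈ FS C.k' → ∃ p ∈ C.A.LS C.k', p.1 = g := fun g hg => by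
    rw [← C.A.LS_proj] at hg; exact hg
  obtain ⟨p, hp, ep⟩ := hS (wd C.b C.f' (-c)) (wd_mem_FS _ _)
  obtain ⟨p', hp', ep'⟩ := hS (T C.f' (-c)) (T_bf_mem_FS _ _)
  have eb : act p.1 C.b = c • C.f' := by
    rw [ep, act_wd_fst C.om_bf' (neg_ne_zero.2 hc), neg_smul, neg_neg]
  have eb' : act p'.1 C.b = C.b + c • C.f' := by
    rw [ep', act_T, C.om_f'b]; simp
  have hm1 : (C.m 1).1 = Ei C.a C.b := by rw [(C.m_spec 1).2, one_smul]
  have base : C.u C.b * C.u (c • C.f') = C.u (C.b + c • C.f') * C.aA c := by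
    rw [C.u_b, C.u_spec (C.S'_le hp) eb, C.u_spec (C.S'_le hp') eb']
    refine C.fL1.eq ?_ ?_ ?_
    · exact mul_mem (C.M1 (C.m_spec 1).1)
        (mul_mem (mul_mem (C.S1 hp) (C.M1 (C.m_spec 1).1)) (inv_mem (C.S1 hp)))
    · exact mul_mem (mul_mem (mul_mem (C.S1 hp') (C.M1 (C.m_spec 1).1)) (inv_mem (C.S1 hp')))
        (C.M1 (C.aA_mem_M c))
    · simp only [Prod.fst_mul, Prod.fst_inv, hm1, (C.aA_spec c).2, Ei_conj, C.fix_a (C.S'_le hp),
        C.fix_a (C.S'_le hp'), eb, eb']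
      rw [Ei_mul C.om_ab (by simp [C.om_a C.Vf']), om_smul_right, C.om_bf', mul_one]
  have h := congrArg (fun X => Q * X * Q⁻¹) base
  simp only [conj_mul.symm] at h
  rw [C.u_conj hQ C.Vb, C.u_conj hQ (C.Vf'.smul c), C.u_conj hQ (C.Vb.add (C.Vf'.smul c)), act_add,
    ex, ey] at h
  have hcm := C.S_comm (C.aA_spec c).1 hQ
  rw [h, hcm.eq, mul_inv_cancel_right]

/-- The given elements at the next index, in terms of the chosen ones. -/
theorem deg_spec (hD : C.A.Deg C.k C.k') {l : Fin n} (hl : (l : ℕ) = (C.k' : ℕ) + 1) :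
    C.u C.b * C.u (be l) = C.u (C.b + be l) ∧
      (C.u C.f' * (C.W⁻¹ * C.u C.b * C.W) * C.u C.f')⁻¹ * C.u (be l) *
        (C.u C.f' * (C.W⁻¹ * C.u C.b * C.W) * C.u C.f') ∈ C.Gp := by
  obtain ⟨m, q, q', qf, W, E, ⟨hm, em⟩, ⟨hW, eW⟩, ⟨hq, eq⟩, ⟨hq', eq'⟩, ⟨hf, ef⟩, hE, h1, h2⟩ :=
    hD l hl
  have e0 : m = C.m 1 := C.fM.eq hm (C.m_spec 1).1 (by rw [em, (C.m_spec 1).2, one_smul]; rfl)
  have e1 : W = C.W := C.fS.eq hW C.W_spec.1 (by rw [eW, C.W_spec.2]; rfl)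
  have u1 : C.u (be l) = q * m * q⁻¹ := by rw [e0]; exact C.u_spec hq eq
  have u2 : C.u (C.b + be l) = q' * m * q'⁻¹ := by rw [e0]; exact C.u_spec hq' eq'
  have u3 : C.u C.f' = qf * m * qf⁻¹ := by rw [e0]; exact C.u_spec hf ef
  rw [C.u_b, ← e0, ← e1, u1, u2, u3]
  exact ⟨h1, h2 ▸ hE⟩

/-- The Heisenberg rule on orthogonal vectors, from the extra identities. -/
theorem u_orth (hD : C.A.Deg C.k C.k') {x y : V F n} (hx : Vn (C.k' : ℕ) x)
    (hy : Vn (C.k' : ℕ) y) (h0 : x ≠ 0) (hd : ∀ r : F, y ≠ r • x) (hc : om x y = 0) :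
    C.u x * C.u y = C.u (x + y) := by
  obtain ⟨g, hg, eg⟩ := exists_trans C.Vb hx C.b_ne h0
  set y0 := act g⁻¹ y with hy0
  have hy0V : Vn (C.k' : ℕ) y0 := hy.act (inv_mem hg)
  have hfb : y0 (Sum.inr C.k') = 0 := by
    have h1 : om C.b y0 = 0 := by
      rw [hy0, ← om_act g, eg, act_act_inv, hc]
    rwa [b, om_swap, om_be_right, neg_neg] at h1
  set z := y0 - y0 (Sum.inl C.k') • C.b with hz
  have hzV : Vn ((C.k' : ℕ) + 1) z := fun i hi => by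
    rcases Nat.lt_or_ge i C.k' with h | h
    · have hne : i ≠ C.k' := fun e => by subst e; omega
      simp [hz, b, be_inl, be_inr, hne, (hy0V i h).1, (hy0V i h).2]
    · obtain rfl : i = C.k' := Fin.ext (by omega)
      simp [hz, b, be_inl, be_inr, hfb]
  have hz0 : z ≠ 0 := fun e => by
    refine hd (y0 (Sum.inl C.k')) ?_
    conv_lhs => rw [← act_act_inv g y, ← hy0, sub_eq_zero.1 e, act_smul, eg]
  obtain ⟨i, hi⟩ := Function.ne_iff.1 hz0
  have hn2 : (C.k' : ℕ) + 1 < n := by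
    by_contra hcon
    cases i with
    | inl i => exact hi (hzV i (by omega)).1
    | inr i => exact hi (hzV i (by omega)).2
  let l : Fin n := ⟨(C.k' : ℕ) + 1, hn2⟩
  have hl0 : (be l : V F n) ≠ 0 := fun e0 => by
    have := om_be_bf (F := F) l l; simp [e0] at this
  obtain ⟨h, hh, eh⟩ := exists_trans (Vn_be (le_refl (l : ℕ))) hzV hl0 hz0
  have hlk : l ≠ C.k' := fun e => by have := congrArg Fin.val e; simp [l] at this
  set w := Ei (bf l) ((-(y0 (Sum.inl C.k'))) • C.b)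
  have hob : om (bf l) ((-(y0 (Sum.inl C.k'))) • C.b) = 0 := by
    simp [b, om_bf_be, hlk.symm]
  have hw : w ∈ Gn F n (C.k' : ℕ) :=
    Ei_mem_Gn (Vn_bf (by simp [l])) (C.Vb.smul _)
  obtain ⟨hQ, hQ1⟩ := C.lg_spec (mul_mem (mul_mem hg (Gn_mono (Nat.le_succ _) hh)) hw)
  set Q := C.lg (g * h * w)
  have ex : act Q.1 C.b = x := by
    rw [hQ1, act_mul, act_mul, act_Ei hob]
    simp [b, om_be_be, om_bf_be, hlk.symm, om_smul_left]
    rw [show act h (be C.k') = be C.k' from hh _ ⟨C.k', Nat.lt_succ_self _, Or.inl rfl⟩]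
    exact eg
  have ey : act Q.1 (be l) = y := by
    rw [hQ1, act_mul, act_mul, act_Ei hob]
    simp [b, om_be_be, om_bf_be]
    rw [show act h (be C.k') = be C.k' from hh _ ⟨C.k', Nat.lt_succ_self _, Or.inl rfl⟩, eh, hz]
    simp [b, hy0]
  have e := congrArg (fun X => Q * X * Q⁻¹) (C.deg_spec hD (l := l) rfl).1
  simp only [conj_mul.symm] at e
  rwa [C.u_conj hQ C.Vb, C.u_conj hQ (Vn_be (by simp [l])),
    C.u_conj hQ (C.Vb.add (Vn_be (by simp [l]))), act_add, ex, ey] at e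

/-- The Heisenberg rule. -/
theorem u_mul {x y : V F n} (hx : Vn (C.k' : ℕ) x) (hy : Vn (C.k' : ℕ) y) :
    C.u x * C.u y = C.u (x + y) * C.aA (om x y) := by
  by_cases hc : om x y ≠ 0
  · exact C.u_plane hx hy hc
  push_neg at hc
  rw [hc, C.aA_zero, mul_one]
  by_cases h0 : x = 0
  · simp [h0, C.u_zero]
  by_cases hd : ∃ r : F, y = r • x
  · obtain ⟨r, rfl⟩ := hd
    obtain ⟨q, hq, e⟩ := C.exists_q hx h0
    rw [show x + r • x = (1 + r) • x by module, C.u_smul hq e, C.u_smul hq e, ← C.m_add,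
      C.u_spec hq e]
    group
  push_neg at hd
  rcases C.hF with ⟨c, hc0, hc1⟩ | hD
  swap
  · exact C.u_orth hD hx hy h0 hd hc
  obtain ⟨s, hs, h1, h2⟩ := exists_om_both hx hy h0 hd 1 (-c)
  have hys : om (y - s) s = -c := by simp [h2]
  have e1 := C.u_plane (hy.sub hs) hs (by rw [hys]; simpa using hc0)
  rw [sub_add_cancel, hys] at e1
  have e2 := C.u_plane hx (hy.sub hs) (by simp [hc, h1])
  have e3 := C.u_plane (hx.add (hy.sub hs)) hs (by
    simp [h1, h2]; rw [← sub_eq_add_neg, sub_eq_zero]; exact fun e => hc1 e.symm)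
  have hxy : x + (y - s) + s = x + y := by abel
  rw [hxy] at e3
  have ey : C.u y = C.u (y - s) * C.u s * C.aA c := by
    rw [e1, mul_assoc, C.aA_add, neg_add_cancel, C.aA_zero, mul_one]
  rw [ey, ← mul_assoc, ← mul_assoc, e2, mul_assoc _ _ (C.u s), (C.aA_u hs _).eq, ← mul_assoc, e3,
    mul_assoc, mul_assoc, C.aA_add, C.aA_add]
  simp [hc, h1, h2]
  rw [show (1 : F) + -c + (-1 + c) = 0 by ring, C.aA_zero]

theorem u_inv {x : V F n} (hx : Vn (C.k' : ℕ) x) : (C.u x)⁻¹ = C.u (-x) :=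
  inv_eq_of_mul_eq_one_right (by
    rw [C.u_mul hx hx.neg, add_neg_cancel, C.u_zero]; simp [C.aA_zero])

end Ctx

end CfsgLib.Chev.CT.SpAm
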