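/-
The short Weyl element exchanging two indices, computed in a group with the amalgam relations.
-/
import Cfsg.Agent.Lib.Chev.CT.SpAmalgam.Lifts

set_option autoImplicit false

namespace CfsgLib.Chev.CT.SpAm

open Matrix

universe u v

variable {F : Type u} [Field F] {n : ℕ} {H : Type v} [Group H]

namespace Ctx

variable (C : Ctx F n H)

theorem hh_one : C.hh 1 = 1 :=
  C.fS.eq (C.hh_spec 1).1 (one_mem _) (by
    rw [(C.hh_spec 1).2, hG, ← wd_inv, mul_inv_cancel]; rfl)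

theorem S_ext {p q : Sp F n × H} (hp : p ∈ C.A.LS C.k) (hq : q ∈ C.A.LS C.k)
    (e1 : act p.1 C.a = act q.1 C.a) (e2 : act p.1 C.f = act q.1 C.f) : p = q :=
  C.fS.eq hp hq (FS_ext (C.A.LS_fst hp) (C.A.LS_fst hq) e1 e2)

theorem hh_a {l : F} (hl : l ≠ 0) : act (C.hh l).1 C.a = l • C.a := by
  rw [(C.hh_spec l).2, act_hG_fst C.om_af hl]

theorem hh_f {l : F} (hl : l ≠ 0) : act (C.hh l).1 C.f = l⁻¹ • C.f := by
  rw [(C.hh_spec l).2, act_hG_snd C.om_af hl]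

theorem W_a : act C.W.1 C.a = C.f := by
  rw [C.W_spec.2, act_wd_fst C.om_af (neg_ne_zero.2 one_ne_zero)]; simp

theorem W_f : act C.W.1 C.f = -C.a := by
  rw [C.W_spec.2, act_wd_snd C.om_af (neg_ne_zero.2 one_ne_zero)]; simp [inv_neg]

theorem W_inv_a : act C.W.1⁻¹ C.a = -C.f := act_inv_eq (by rw [act_neg, C.W_f, neg_neg])
theorem W_inv_f : act C.W.1⁻¹ C.f = C.a := act_inv_eq C.W_a

theorem W_sq : C.W * C.W = C.hh (-1) := by
  refine C.S_ext (mul_mem C.W_spec.1 C.W_spec.1) (C.hh_spec _).1 ?_ ?_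
  · rw [Prod.fst_mul, act_mul, C.W_a, C.W_f, C.hh_a (neg_ne_zero.2 one_ne_zero)]; simp
  · rw [Prod.fst_mul, act_mul, C.W_f, act_neg, C.W_a, C.hh_f (neg_ne_zero.2 one_ne_zero)]
    simp [inv_neg]

theorem hh_mul {l m : F} (hl : l ≠ 0) (hm : m ≠ 0) : C.hh l * C.hh m = C.hh (l * m) := by
  refine C.S_ext (mul_mem (C.hh_spec _).1 (C.hh_spec _).1) (C.hh_spec _).1 ?_ ?_
  · rw [Prod.fst_mul, act_mul, C.hh_a hm, act_smul, C.hh_a hl, C.hh_a (mul_ne_zero hl hm), smul_smul,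
      mul_comm m]
  · rw [Prod.fst_mul, act_mul, C.hh_f hm, act_smul, C.hh_f hl, C.hh_f (mul_ne_zero hl hm), smul_smul,
      mul_inv, mul_comm l⁻¹]

theorem hh_inv {l : F} (hl : l ≠ 0) : (C.hh l)⁻¹ = C.hh l⁻¹ :=
  inv_eq_of_mul_eq_one_right (by rw [C.hh_mul hl (inv_ne_zero hl), mul_inv_cancel₀ hl, C.hh_one])

theorem hh_W {l : F} (hl : l ≠ 0) : C.hh l * C.W = C.W * C.hh l⁻¹ := by
  refine C.S_ext (mul_mem (C.hh_spec _).1 C.W_spec.1) (mul_mem C.W_spec.1 (C.hh_spec _).1) ?_ ?_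
  · rw [Prod.fst_mul, Prod.fst_mul, act_mul, act_mul, C.W_a, C.hh_f hl, C.hh_a (inv_ne_zero hl),
      act_smul, C.W_a]
  · rw [Prod.fst_mul, Prod.fst_mul, act_mul, act_mul, C.W_f, act_neg, C.hh_a hl,
      C.hh_f (inv_ne_zero hl), act_smul, C.W_f, inv_inv, smul_neg]

theorem hh_aA {l : F} (hl : l ≠ 0) (t : F) : C.hh l * C.aA t = C.aA (l * l * t) * C.hh l := by
  refine C.fS.eq (mul_mem (C.hh_spec _).1 (C.aA_spec _).1) (mul_mem (C.aA_spec _).1 (C.hh_spec _).1) ?_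
  rw [Prod.fst_mul, Prod.fst_mul, (C.aA_spec t).2, (C.aA_spec _).2, ← mul_inv_eq_iff_eq_mul, T_conj,
    C.hh_a hl, T_smul]

theorem hh_m {l : F} (hl : l ≠ 0) (r : F) : C.hh l * C.m r * (C.hh l)⁻¹ = C.m (l * r) := by
  refine C.fL2.eq (mul_mem (mul_mem (C.S2 (C.hh_spec _).1) (C.M2 (C.m_spec r).1))
    (inv_mem (C.S2 (C.hh_spec _).1))) (C.M2 (C.m_spec _).1) ?_
  rw [Prod.fst_mul, Prod.fst_mul, Prod.fst_inv, (C.m_spec r).2, (C.m_spec _).2, Ei_conj, C.hh_a hl,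
    act_smul, C.act_Sk (C.hh_spec l).1 C.Vb, Ei_smul (by simp [C.om_ab]), smul_smul]

theorem hh_u {l : F} (hl : l ≠ 0) {x : V F n} (hx : Vn (C.k' : ℕ) x) :
    C.hh l * C.u x * (C.hh l)⁻¹ = C.u (l • x) := by
  by_cases h0 : x = 0
  · simp [h0, C.u_zero]
  obtain ⟨q, hq, e⟩ := C.exists_q hx h0
  have hc := C.S_comm (C.hh_spec l).1 hq
  rw [C.u_spec hq e, C.u_smul hq e, ← mul_one l, ← C.hh_m hl 1, mul_one]
  calc C.hh l * (q * C.m 1 * q⁻¹) * (C.hh l)⁻¹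
      = (C.hh l * q) * C.m 1 * (q⁻¹ * (C.hh l)⁻¹) := by group
    _ = (q * C.hh l) * C.m 1 * ((C.hh l)⁻¹ * q⁻¹) := by rw [← hc.eq, ← (hc.inv_left.inv_right).eq]
    _ = _ := by group

/-- The opposite short root element. -/
noncomputable def R (x : V F n) : Sp F n × H := C.W⁻¹ * C.u x * C.W

theorem R_fst {x : V F n} (hx : Vn (C.k' : ℕ) x) : (C.R x).1 = Ei (-C.f) x := by
  have hx' : act C.W.1⁻¹ x = x := act_inv_eq (C.act_Sk C.W_spec.1 hx)
  have e := Ei_conj C.W.1⁻¹ C.a x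
  rw [inv_inv, hx', C.W_inv_a] at e
  rw [R, Prod.fst_mul, Prod.fst_mul, Prod.fst_inv, C.u_fst hx, e]

theorem R_conj {q : Sp F n × H} (hq : q ∈ C.Gp) {x : V F n} (hx : Vn (C.k' : ℕ) x) :
    q * C.R x * q⁻¹ = C.R (act q.1 x) := by
  have hc := C.S_comm C.W_spec.1 hq
  rw [R, R, ← C.u_conj hq hx]
  calc q * (C.W⁻¹ * C.u x * C.W) * q⁻¹ = (q * C.W⁻¹) * C.u x * (C.W * q⁻¹) := by group
    _ = (C.W⁻¹ * q) * C.u x * (q⁻¹ * C.W) := by rw [hc.inv_right.eq, hc.inv_left.eq]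
    _ = _ := by group

theorem R_inv {x : V F n} (hx : Vn (C.k' : ℕ) x) : (C.R x)⁻¹ = C.R (-x) := by
  rw [R, R, ← C.u_inv hx]; group

theorem R_zero : C.R 0 = 1 := by rw [R, C.u_zero]; group

/-- The stabiliser of the first vector. -/
noncomputable def P : Subgroup (Sp F n × H) where
  carrier := {p | ∃ (x : V F n) (t : F) (q : Sp F n × H),
    Vn (C.k' : ℕ) x ∧ q ∈ C.Gp ∧ p = C.u x * C.aA t * q}
  one_mem' := ⟨0, 0, 1, Vn_zero, one_mem _, by rw [C.u_zero, C.aA_zero, one_mul, one_mul]⟩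
  mul_mem' := by
    rintro _ _ ⟨x, t, q, hx, hq, rfl⟩ ⟨y, s, r, hy, hr, rfl⟩
    have hqy := hy.act (C.fst_Gp hq)
    refine ⟨x + act q.1 y, om x (act q.1 y) + (t + s), q * r, hx.add hqy, mul_mem hq hr, ?_⟩
    calc C.u x * C.aA t * q * (C.u y * C.aA s * r)
        = C.u x * C.aA t * (q * C.u y * q⁻¹) * (q * C.aA s) * r := by group
      _ = C.u x * (C.aA t * C.u (act q.1 y)) * (C.aA s * q) * r := by
          rw [C.u_conj hq hy, (C.S_comm (C.aA_spec s).1 hq).eq]; group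
      _ = C.u x * C.u (act q.1 y) * (C.aA t * C.aA s) * (q * r) := by
          rw [(C.aA_u hqy t).eq]; group
      _ = _ := by rw [C.u_mul hx hqy, C.aA_add, mul_assoc _ (C.aA _) (C.aA _), C.aA_add]
  inv_mem' := by
    rintro _ ⟨x, t, q, hx, hq, rfl⟩
    have hy := hx.neg.act (inv_mem (C.fst_Gp hq))
    refine ⟨act q.1⁻¹ (-x), -t, q⁻¹, hy, inv_mem hq, ?_⟩
    calc (C.u x * C.aA t * q)⁻¹ = q⁻¹ * (C.aA t)⁻¹ * (C.u x)⁻¹ := by group
      _ = (q⁻¹ * C.aA (-t)) * C.u (-x) := by rw [C.aA_inv, C.u_inv hx]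
      _ = C.aA (-t) * (q⁻¹ * C.u (-x) * q⁻¹⁻¹) * q⁻¹ := by
          rw [(C.S_comm (C.aA_spec _).1 (inv_mem hq)).eq]; group
      _ = _ := by rw [C.u_conj (inv_mem hq) hx.neg, Prod.fst_inv, (C.aA_u hy _).eq]

theorem P_u {x : V F n} (hx : Vn (C.k' : ℕ) x) : C.u x ∈ C.P :=
  ⟨x, 0, 1, hx, one_mem _, by rw [C.aA_zero, mul_one, mul_one]⟩

theorem P_A (t : F) : C.aA t ∈ C.P :=
  ⟨0, t, 1, Vn_zero, one_mem _, by rw [C.u_zero, one_mul, mul_one]⟩

theorem P_G {q : Sp F n × H} (hq : q ∈ C.Gp) : q ∈ C.P :=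
  ⟨0, 0, q, Vn_zero, hq, by rw [C.u_zero, C.aA_zero, one_mul, one_mul]⟩

theorem P_m (r : F) : C.m r ∈ C.P := C.u_rb r ▸ C.P_u (C.Vb.smul r)

theorem P_fix {p : Sp F n × H} (hp : p ∈ C.P) : act p.1 C.a = C.a := by
  obtain ⟨x, t, q, hx, hq, rfl⟩ := hp
  rw [Prod.fst_mul, Prod.fst_mul, act_mul, act_mul, C.fix_a hq, (C.aA_spec t).2, act_T, om_self,
    C.u_fst hx, act_Ei (C.om_a hx)]
  simp [act_Ei (C.om_a hx), C.om_a' hx]

theorem P_func : Func C.P := by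
  rintro _ ⟨x, t, q, hx, hq, rfl⟩ e
  have hf : act (C.u x * C.aA t * q).1 C.f = C.f + x + t • C.a := by
    rw [Prod.fst_mul, Prod.fst_mul, act_mul, act_mul, C.fix_f hq, (C.aA_spec t).2, act_T, C.om_af,
      C.u_fst hx, mul_one, act_add, act_smul, act_Ei (C.om_a hx), act_Ei (C.om_a hx), C.om_af,
      C.om_f_ hx, om_self, C.om_a' hx]
    module
  rw [e, act_one] at hf
  have ht : t = 0 := by
    have := congrArg (fun v => om v C.f) hf
    simpa [C.om_af, C.om_f_ hx] using this.symm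
  subst ht
  obtain rfl : x = 0 := by simpa using hf.symm
  rw [C.u_zero, C.aA_zero, one_mul, one_mul] at e ⊢
  exact C.hfun q hq e

/-- The stabiliser of the partner of the first vector. -/
noncomputable def Pm : Subgroup (Sp F n × H) := C.P.comap (MulAut.conj C.W).toMonoidHom

theorem mem_Pm {p : Sp F n × H} : p ∈ C.Pm ↔ C.W * p * C.W⁻¹ ∈ C.P := Iff.rfl

theorem Pm_func : Func C.Pm := fun p hp e => by
  have := C.P_func _ hp (by
    show (C.W * p * C.W⁻¹).1 = 1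
    rw [Prod.fst_mul, Prod.fst_mul, Prod.fst_inv, e, mul_one, mul_inv_cancel])
  exact conj_eq_one_iff.1 this

theorem Pm_G {q : Sp F n × H} (hq : q ∈ C.Gp) : q ∈ C.Pm := by
  rw [mem_Pm, ← (C.S_comm C.W_spec.1 hq).eq, mul_inv_cancel_right]; exact C.P_G hq

theorem Pm_R {x : V F n} (hx : Vn (C.k' : ℕ) x) : C.R x ∈ C.Pm := by
  rw [mem_Pm, R]
  have e : C.W * (C.W⁻¹ * C.u x * C.W) * C.W⁻¹ = C.u x := by group
  rw [e]; exact C.P_u hx

theorem Pm_aF (t : F) : C.aF t ∈ C.Pm := by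
  have e : C.W * C.aF t * C.W⁻¹ = C.aA t :=
    C.fS.eq (mul_mem (mul_mem C.W_spec.1 (C.aF_spec t).1) (inv_mem C.W_spec.1)) (C.aA_spec t).1
      (by rw [Prod.fst_mul, Prod.fst_mul, Prod.fst_inv, (C.aF_spec t).2, T_conj, C.W_f, T_neg,
        (C.aA_spec t).2])
  rw [mem_Pm, e]; exact C.P_A t

theorem R_rb_L2 (r : F) : C.R (r • C.b) ∈ C.L2 := by
  rw [R, C.u_rb]
  exact mul_mem (mul_mem (inv_mem (C.S2 C.W_spec.1)) (C.M2 (C.m_spec r).1)) (C.S2 C.W_spec.1)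

theorem R_b_L2 : C.R C.b ∈ C.L2 := by simpa using C.R_rb_L2 1

/-- The short Weyl element. -/
noncomputable def s : Sp F n × H := C.u C.f' * C.R C.b * C.u C.f'

theorem act_uf (y : V F n) : act (C.u C.f').1 y = y + om C.a y • C.f' + om C.f' y • C.a := by
  rw [C.u_fst C.Vf', act_Ei (C.om_a C.Vf')]

theorem act_Rb (y : V F n) : act (C.R C.b).1 y = y + om (-C.f) y • C.b + om C.b y • (-C.f) := by
  rw [C.R_fst C.Vb, act_Ei (by simp [C.om_f C.Vb])]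

theorem act_s_a : act C.s.1 C.a = C.b := by
  simp only [s, Prod.fst_mul, act_mul, C.act_uf, C.act_Rb, om_add_right, om_smul_right, om_neg_left,
    om_neg_right, om_self, C.om_fa, C.om_a' C.Vb, C.om_a' C.Vf', C.om_ab, C.om_f'b]
  match_scalars <;> simp [C.om_a' C.Vf', C.om_f'b, C.om_ab]

theorem act_s_f : act C.s.1 C.f = C.f' := by
  simp only [s, Prod.fst_mul, act_mul, C.act_uf, C.act_Rb, om_add_right, om_smul_right, om_neg_left,
    om_neg_right, om_self, C.om_af, C.om_f_ C.Vf', C.om_f C.Vf', C.om_f_ C.Vb, C.om_bf',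
    C.om_a C.Vf']
  match_scalars <;> simp [C.om_af, C.om_f_ C.Vf', C.om_a C.Vf']

theorem s_A (t : F) : C.s * C.aA t * C.s⁻¹ = C.Tb t := by
  have hu := C.P_u C.Vf'
  have hab : act (C.R C.b).1 C.a = C.a + C.b := by
    rw [C.act_Rb]; simp [C.om_fa, C.om_a' C.Vb]
  have hX : C.R C.b * C.aA t * (C.R C.b)⁻¹ = C.aA t * C.m t * C.Tb t := by
    refine C.fL2.eq (mul_mem (mul_mem C.R_b_L2 (C.S2 (C.aA_spec t).1)) (inv_mem C.R_b_L2))
      (mul_mem (mul_mem (C.S2 (C.aA_spec t).1) (C.M2 (C.m_spec t).1)) (C.M2 (C.Tb_spec t).1)) ?_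
    rw [Prod.fst_mul, Prod.fst_mul, Prod.fst_inv, (C.aA_spec t).2, T_conj, hab, Prod.fst_mul,
      Prod.fst_mul, (C.aA_spec t).2, (C.m_spec t).2, (C.Tb_spec t).2.2, T_add_vec C.om_ab]
  have e1 : C.u C.f' * C.aA t * (C.u C.f')⁻¹ = C.aA t := by
    rw [← (C.aA_u C.Vf' t).eq, mul_inv_cancel_right]
  have e : C.s * C.aA t * C.s⁻¹ = C.u C.f' * (C.aA t * C.m t * C.Tb t) * (C.u C.f')⁻¹ := by
    rw [← hX]
    conv_rhs => rw [← e1]
    rw [s]; group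
  refine C.P_func.eq (e ▸ ?_) (C.P_G (C.Tb_spec t).2.1) ?_
  · exact mul_mem (mul_mem hu (mul_mem (mul_mem (C.P_A t) (C.P_m t)) (C.P_G (C.Tb_spec t).2.1)))
      (inv_mem hu)
  · rw [Prod.fst_mul, Prod.fst_mul, Prod.fst_inv, (C.aA_spec t).2, T_conj, C.act_s_a,
      (C.Tb_spec t).2.2]

theorem s_F (t : F) : C.s * C.aF t * C.s⁻¹ = C.lg (T C.f' t) := by
  obtain ⟨hT, hT'⟩ := C.lg_spec (T_mem_Gn C.Vf' t)
  have hm : C.m 1 * C.aF t * (C.m 1)⁻¹ ∈ C.Pm := by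
    have e : C.m 1 * C.aF t * (C.m 1)⁻¹ = C.aF t * C.R ((-t) • C.b) * C.Tb t := by
      refine C.fL2.eq (mul_mem (mul_mem (C.M2 (C.m_spec 1).1) (C.S2 (C.aF_spec t).1))
        (inv_mem (C.M2 (C.m_spec 1).1)))
        (mul_mem (mul_mem (C.S2 (C.aF_spec t).1) (C.R_rb_L2 (-t))) (C.M2 (C.Tb_spec t).1)) ?_
      rw [Prod.fst_mul, Prod.fst_mul, Prod.fst_inv, (C.aF_spec t).2, T_conj, Prod.fst_mul,
        Prod.fst_mul, (C.aF_spec t).2, C.R_fst (C.Vb.smul _), (C.Tb_spec t).2.2, (C.m_spec 1).2,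
        one_smul, act_Ei C.om_ab, C.om_af, C.om_f_ C.Vb, one_smul, zero_smul, add_zero,
        T_add_vec (C.om_f C.Vb), show (-C.f) = (-1 : F) • C.f by simp,
        Ei_smul (by simp [C.om_f C.Vb]), smul_smul, neg_one_mul, neg_neg]
    rw [e]
    exact mul_mem (mul_mem (C.Pm_aF t) (C.Pm_R (C.Vb.smul _))) (C.Pm_G (C.Tb_spec t).2.1)
  have hu : C.u C.f' * C.aF t * (C.u C.f')⁻¹ ∈ C.Pm := by
    obtain ⟨q, hq, eq⟩ := C.exists_q C.Vf' C.f'_ne
    have e : q * (C.m 1 * C.aF t * (C.m 1)⁻¹) * q⁻¹ = C.u C.f' * C.aF t * (C.u C.f')⁻¹ := by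
      have hc := C.S_comm (C.aF_spec t).1 hq
      calc q * (C.m 1 * C.aF t * (C.m 1)⁻¹) * q⁻¹
          = q * C.m 1 * (C.aF t * q⁻¹) * (q * C.m 1 * q⁻¹)⁻¹ := by group
        _ = _ := by rw [hc.symm.inv_right.eq, C.u_spec hq eq]; group
    exact e ▸ mul_mem (mul_mem (C.Pm_G hq) hm) (inv_mem (C.Pm_G hq))
  have hX : C.R C.b * (C.u C.f' * C.aF t * (C.u C.f')⁻¹) * (C.R C.b)⁻¹ = C.lg (T C.f' t) := by
    refine C.Pm_func.eq (mul_mem (mul_mem (C.Pm_R C.Vb) hu) (inv_mem (C.Pm_R C.Vb))) (C.Pm_G hT) ?_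
    simp only [Prod.fst_mul, Prod.fst_inv, (C.aF_spec t).2, T_conj, hT']
    congr 1
    simp only [C.act_uf, C.act_Rb, C.om_af, C.om_f_ C.Vf', C.om_f C.Vf', om_neg_left, om_self,
      om_add_right, om_smul_right, C.om_f_ C.Vb, C.om_bf', one_smul, zero_smul, add_zero, neg_zero,
      mul_one, mul_zero, zero_add, smul_neg]
    abel
  have hfix : act (C.lg (T C.f' t)).1 C.f' = C.f' := by rw [hT', act_T, om_self]; simp
  have e : C.s * C.aF t * C.s⁻¹ = C.u C.f' * (C.R C.b * (C.u C.f' * C.aF t * (C.u C.f')⁻¹) *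
      (C.R C.b)⁻¹) * (C.u C.f')⁻¹ := by rw [s]; group
  have hc := C.u_conj hT C.Vf'
  rw [hfix, mul_inv_eq_iff_eq_mul] at hc
  rw [e, hX, ← hc, mul_inv_cancel_right]

theorem S_closure {g : Sp F n} (hg : g ∈ FS C.k) :
    g ∈ Subgroup.closure ({g | ∃ t, g = T C.a t} ∪ {g | ∃ t, g = T C.f t}) := by
  set K := Subgroup.closure ({g | ∃ t, g = T C.a t} ∪ {g | ∃ t, g = T C.f t})
  have hA : ∀ t, T C.a t ∈ K := fun t => Subgroup.subset_closure (Or.inl ⟨t, rfl⟩)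
  have hB : ∀ t, T C.f t ∈ K := fun t => Subgroup.subset_closure (Or.inr ⟨t, rfl⟩)
  suffices h : ∀ g ∈ FS C.k, ∀ α β : F, act g C.a = α • C.a + β • C.f → β ≠ 0 → g ∈ K by
    obtain ⟨α, β, e⟩ := FS_act_fst hg
    by_cases hb : β = 0
    · subst hb
      have hα : α ≠ 0 := fun e0 => by
        have h' := e; simp [e0] at h'
        have := om_act g C.a C.f
        rw [show act g C.a = 0 from h', om_zero_left, C.om_af] at this
        exact zero_ne_one this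
      have hW : wd C.a C.f (-1) ∈ K := by
        rw [wd]; exact mul_mem (mul_mem (hA _) (hB _)) (hA _)
      have := h _ (mul_mem (wd_mem_FS C.k (-1)) hg) 0 α (by
        show act (wd C.a C.f (-1) * g) C.a = _
        rw [act_mul, show act g C.a = α • C.a by simpa [a, f] using e, act_smul,
          act_wd_fst C.om_af (neg_ne_zero.2 one_ne_zero)]
        simp) hα
      have h' := mul_mem (inv_mem hW) this
      rwa [show wd C.a C.f (-1) = wd (be C.k) (bf C.k) (-1) from rfl, inv_mul_cancel_left] at h'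
    · exact h g hg α β e hb
  intro g hg α β e hb
  set g0 := T C.a ((α - 1) / β) * T C.f (-β)
  have hg0 : g0 ∈ K := mul_mem (hA _) (hB _)
  have hg0S : g0 ∈ FS C.k := mul_mem (T_be_mem_FS _ _) (T_bf_mem_FS _ _)
  have ea : act g0 C.a = α • C.a + β • C.f := by
    simp only [g0, act_mul, act_T, C.om_fa, om_add_right, om_smul_right, om_self, C.om_af, act_add,
      act_smul]
    match_scalars <;> field_simp <;> ring
  have hfix : act (g0⁻¹ * g) C.a = C.a := by rw [act_mul, e]; exact act_inv_eq ea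
  have hz : g0⁻¹ * g ∈ FS C.k := mul_mem (inv_mem hg0S) hg
  have e2 : g0⁻¹ * g = T C.a ((act (g0⁻¹ * g) C.f) (Sum.inl C.k)) := by
    refine FS_ext hz (T_be_mem_FS _ _) ?_ ?_
    · show act _ C.a = act _ C.a
      rw [hfix]; simp
    · show act _ C.f = act _ C.f
      have hspan := span_of_others (v := act (g0⁻¹ * g) C.f) (k := C.k) (fun z hz' => by
        conv_lhs => rw [← hz z hz']
        rw [om_act]; exact (others_om hz').2)
      have h1 : (act (g0⁻¹ * g) C.f) (Sum.inr C.k) = 1 := by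
        have h1 : om C.a (act (g0⁻¹ * g) C.f) = 1 := by
          conv_lhs => rw [← hfix]
          rw [om_act, C.om_af]
        rw [a, om_swap, om_be_right, neg_neg] at h1
        exact h1
      rw [h1, one_smul] at hspan
      rw [act_T, C.om_af, mul_one]
      conv_lhs => rw [hspan]
      exact add_comm _ _
  have h' := mul_mem hg0 (hA ((act (g0⁻¹ * g) C.f) (Sum.inl C.k)))
  rwa [← e2, mul_inv_cancel_left] at h'

theorem s_S {g : Sp F n × H} (hg : g ∈ C.A.LS C.k) : C.s * g * C.s⁻¹ ∈ C.Gp := by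
  set K : Subgroup (Sp F n × H) := C.A.LS C.k ⊓ C.Gp.comap (MulAut.conj C.s).toMonoidHom
  have hle : Subgroup.closure ({g | ∃ t, g = T C.a t} ∪ {g | ∃ t, g = T C.f t}) ≤
      K.map (MonoidHom.fst (Sp F n) H) := by
    rw [Subgroup.closure_le]
    rintro _ (⟨t, rfl⟩ | ⟨t, rfl⟩)
    · exact ⟨C.aA t, ⟨(C.aA_spec t).1, show C.s * C.aA t * C.s⁻¹ ∈ C.Gp from
        C.s_A t ▸ (C.Tb_spec t).2.1⟩, (C.aA_spec t).2⟩
    · exact ⟨C.aF t, ⟨(C.aF_spec t).1, show C.s * C.aF t * C.s⁻¹ ∈ C.Gp from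
        C.s_F t ▸ (C.lg_spec (T_mem_Gn C.Vf' t)).1⟩, (C.aF_spec t).2⟩
  obtain ⟨p, ⟨hp, hp'⟩, e⟩ := hle (C.S_closure (C.A.LS_fst hg))
  exact C.fS.eq hp hg e ▸ hp'

/-- The torus at the next index. -/
noncomputable def hp (l : F) : Sp F n × H := C.s * C.hh l * C.s⁻¹

theorem hp_mem (l : F) : C.hp l ∈ C.Gp := C.s_S (C.hh_spec l).1

theorem hp_fst (l : F) : (C.hp l).1 = hG C.b C.f' l := by
  rw [hp, Prod.fst_mul, Prod.fst_mul, Prod.fst_inv, (C.hh_spec l).2, hG_conj, C.act_s_a, C.act_s_f]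

theorem hp_b {l : F} (hl : l ≠ 0) : act (C.hp l).1 C.b = l • C.b := by
  rw [C.hp_fst, act_hG_fst C.om_bf' hl]

theorem hp_f' {l : F} (hl : l ≠ 0) : act (C.hp l).1 C.f' = l⁻¹ • C.f' := by
  rw [C.hp_fst, act_hG_snd C.om_bf' hl]

theorem s_inv_eq : C.s⁻¹ = C.hp (-1) * C.s * (C.hp (-1))⁻¹ := by
  have h := C.hp_mem (-1)
  have hne : (-1 : F) ≠ 0 := neg_ne_zero.2 one_ne_zero
  have e : C.hp (-1) * C.s * (C.hp (-1))⁻¹ = (C.hp (-1) * C.u C.f' * (C.hp (-1))⁻¹) *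
      (C.hp (-1) * C.R C.b * (C.hp (-1))⁻¹) * (C.hp (-1) * C.u C.f' * (C.hp (-1))⁻¹) := by
    rw [s]; group
  rw [e, C.u_conj h C.Vf', C.R_conj h C.Vb, C.hp_b hne, C.hp_f' hne]
  simp only [inv_neg, inv_one, neg_smul, one_smul]
  rw [← C.u_inv C.Vf', ← C.R_inv C.Vb, s]; group

theorem s_inv_S {g : Sp F n × H} (hg : g ∈ C.A.LS C.k) : C.s⁻¹ * g * C.s ∈ C.Gp := by
  have h := C.hp_mem (-1)
  have hc := C.S_comm hg h
  have e : C.s⁻¹ * g * C.s = C.hp (-1) * (C.s * g * C.s⁻¹) * (C.hp (-1))⁻¹ := by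
    calc C.s⁻¹ * g * C.s = (C.hp (-1) * C.s * (C.hp (-1))⁻¹) * g *
          (C.hp (-1) * C.s * (C.hp (-1))⁻¹)⁻¹ := by rw [← C.s_inv_eq, inv_inv]
      _ = C.hp (-1) * C.s * ((C.hp (-1))⁻¹ * g) * C.hp (-1) * C.s⁻¹ * (C.hp (-1))⁻¹ := by group
      _ = _ := by rw [hc.inv_left.eq]; group
  rw [e]; exact mul_mem (mul_mem h (C.s_S hg)) (inv_mem h)

theorem s_sq : C.s * C.s = C.hp (-1) * (C.hh (-1))⁻¹ := by
  have h : C.s⁻¹ = (C.s * C.hh (-1) * C.s⁻¹) * C.s * (C.s * C.hh (-1) * C.s⁻¹)⁻¹ := C.s_inv_eq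
  have h2 : C.s * C.s * C.hh (-1) * C.s * (C.hh (-1))⁻¹ * C.s⁻¹ = 1 := by
    have := congrArg (fun X => C.s * X) h
    simp only [mul_inv_cancel] at this
    rw [this]; group
  rw [hp]
  calc C.s * C.s = (C.s * C.s * C.hh (-1) * C.s * (C.hh (-1))⁻¹ * C.s⁻¹) *
        (C.s * C.hh (-1) * C.s⁻¹ * (C.hh (-1))⁻¹) := by group
    _ = _ := by rw [h2, one_mul]

theorem s_m (α : F) : C.s⁻¹ * C.m α * C.s ∈ C.P := by
  have hu := C.P_u C.Vf'
  have hRinv : act (C.R C.b).1⁻¹ C.a = C.a - C.b ∧ act (C.R C.b).1⁻¹ C.b = C.b := by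
    refine ⟨act_inv_eq ?_, act_inv_eq ?_⟩ <;>
      simp [C.act_Rb, C.om_fa, C.om_a' C.Vb, C.om_f C.Vb]
  have h1 : (C.u C.f')⁻¹ * C.m α * C.u C.f' = C.m α * C.aA (2 * α) := by
    rw [← C.u_rb, C.u_inv C.Vf', C.u_mul C.Vf'.neg (C.Vb.smul _), mul_assoc,
      (C.aA_u C.Vf' _).eq, ← mul_assoc, C.u_mul (C.Vf'.neg.add (C.Vb.smul _)) C.Vf', mul_assoc,
      C.aA_add]
    congr 2
    · abel
    · simp [C.om_f'b, C.om_bf']; ring
  have h2 : (C.R C.b)⁻¹ * C.m α * C.R C.b = C.m α * C.Tb (-2 * α) := by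
    refine C.fL2.eq (mul_mem (mul_mem (inv_mem C.R_b_L2) (C.M2 (C.m_spec α).1)) C.R_b_L2)
      (mul_mem (C.M2 (C.m_spec α).1) (C.M2 (C.Tb_spec _).1)) ?_
    have e := Ei_conj (C.R C.b).1⁻¹ C.a (α • C.b)
    rw [inv_inv, act_smul, hRinv.1, hRinv.2] at e
    rw [Prod.fst_mul, Prod.fst_mul, Prod.fst_inv, Prod.fst_mul, (C.m_spec α).2, e,
      (C.Tb_spec _).2.2]
    refine Sp_ext fun y => ?_
    rw [act_mul, act_Ei (show om (C.a - C.b) (α • C.b) = 0 by simp [C.om_ab]), act_T,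
      act_Ei (show om C.a (α • C.b) = 0 by simp [C.om_ab])]
    simp [C.om_ab]
    module
  have h3 : (C.R C.b)⁻¹ * C.aA (2 * α) * C.R C.b = C.aA (2 * α) * C.m (-(2 * α)) * C.Tb (2 * α) := by
    refine C.fL2.eq (mul_mem (mul_mem (inv_mem C.R_b_L2) (C.S2 (C.aA_spec _).1)) C.R_b_L2)
      (mul_mem (mul_mem (C.S2 (C.aA_spec _).1) (C.M2 (C.m_spec _).1)) (C.M2 (C.Tb_spec _).1)) ?_
    have e := T_conj (C.R C.b).1⁻¹ C.a (2 * α)
    rw [inv_inv, hRinv.1] at e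
    simp only [Prod.fst_mul, Prod.fst_inv, (C.m_spec _).2, (C.aA_spec _).2, e, (C.Tb_spec _).2.2]
    rw [sub_eq_add_neg, T_add_vec (by simp [C.om_ab]), T_neg, smul_neg, neg_smul]
  have e : C.s⁻¹ * C.m α * C.s = (C.u C.f')⁻¹ *
      (((C.R C.b)⁻¹ * C.m α * C.R C.b) * ((C.R C.b)⁻¹ * C.aA (2 * α) * C.R C.b)) * C.u C.f' := by
    have : (C.u C.f')⁻¹ * C.m α * C.u C.f' = C.m α * C.aA (2 * α) := h1
    rw [s]
    calc (C.u C.f' * C.R C.b * C.u C.f')⁻¹ * C.m α * (C.u C.f' * C.R C.b * C.u C.f')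
        = (C.u C.f')⁻¹ * ((C.R C.b)⁻¹ * ((C.u C.f')⁻¹ * C.m α * C.u C.f') * C.R C.b) * C.u C.f' := by
          group
      _ = _ := by rw [this]; group
  rw [e, h2, h3]
  exact mul_mem (mul_mem (inv_mem hu) (mul_mem (mul_mem (C.P_m _) (C.P_G (C.Tb_spec _).2.1))
    (mul_mem (mul_mem (C.P_A _) (C.P_m _)) (C.P_G (C.Tb_spec _).2.1)))) hu

theorem s_u {y : V F n} (hy : Vn ((C.k' : ℕ) + 1) y) : C.s⁻¹ * C.u y * C.s ∈ C.Gp := by
  have hy' : Vn (C.k' : ℕ) y := hy.mono (Nat.le_succ _)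
  rcases C.hF with hF | hD
  swap
  · by_cases h0 : y = 0
    · simp [h0, C.u_zero, one_mem]
    obtain ⟨i, hi⟩ := Function.ne_iff.1 h0
    have hn2 : (C.k' : ℕ) + 1 < n := by
      by_contra hcon
      cases i with
      | inl i => exact hi (hy i (by omega)).1
      | inr i => exact hi (hy i (by omega)).2
    let l : Fin n := ⟨(C.k' : ℕ) + 1, hn2⟩
    have hl0 : (be l : V F n) ≠ 0 := fun e0 => by
      have := om_be_bf (F := F) l l; simp [e0] at this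
    obtain ⟨g, hg, eg⟩ := exists_trans (Vn_be (le_refl (l : ℕ))) hy hl0 h0
    obtain ⟨hG, hG1⟩ := C.lg_spec (Gn_mono (Nat.le_succ _) hg)
    set G := C.lg g
    have hb : act G.1 C.b = C.b := by
      rw [hG1]; exact hg _ ⟨C.k', Nat.lt_succ_self _, Or.inl rfl⟩
    have hf : act G.1 C.f' = C.f' := by
      rw [hG1]; exact hg _ ⟨C.k', Nat.lt_succ_self _, Or.inr rfl⟩
    have hs : G * C.s * G⁻¹ = C.s := by
      rw [s, conj_mul.symm, conj_mul.symm, C.u_conj hG C.Vf', C.R_conj hG C.Vb, hb, hf]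
    have hu : G * C.u (be l) * G⁻¹ = C.u y := by
      rw [C.u_conj hG (Vn_be (by simp [l])), hG1, eg]
    have hmem : C.s⁻¹ * C.u (be l) * C.s ∈ C.Gp := (C.deg_spec hD (l := l) rfl).2
    have e : C.s⁻¹ * C.u y * C.s = G * (C.s⁻¹ * C.u (be l) * C.s) * G⁻¹ := by
      conv_lhs => rw [← hu, ← hs]
      group
    rw [e]
    exact mul_mem (mul_mem hG hmem) (inv_mem hG)
  let E : F → Sp F n × H := fun l => C.lg (Ei C.b (l • y))
  have hE : ∀ l, E l ∈ C.Gp ∧ (E l).1 = Ei C.b (l • y) := fun l =>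
    C.lg_spec (Ei_mem_Gn C.Vb (hy'.smul l))
  have hob : ∀ l : F, om C.b (l • y) = 0 := fun l => by simp [C.om_b hy]
  have hEb : ∀ l, act (E l).1 C.b = C.b := fun l => by
    rw [(hE l).2, act_Ei (hob l)]; simp [C.om_b' hy]
  have hEy : ∀ l c : F, act (E l).1 (c • y) = c • y := fun l c => by
    rw [(hE l).2, act_Ei (hob l)]; simp [C.om_b hy]
  have hEf : ∀ l, act (E l).1 C.f' = C.f' + l • y := fun l => by
    rw [(hE l).2, act_Ei (hob l)]; simp [C.om_bf', C.om_f''' hy]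
  have hEadd : ∀ l l', E l * E l' = E (l + l') := fun l l' =>
    C.eqG (mul_mem (hE l).1 (hE l').1) (hE _).1 (by
      rw [Prod.fst_mul, (hE l).2, (hE l').2, (hE _).2, Ei_mul (hob l) (hob l'), add_smul]; simp)
  have key : C.s⁻¹ * (E 1 * C.u (-y)) * C.s = C.u y * E 1 := by
    have hRc : (C.R C.b)⁻¹ * E 1 * C.R C.b = E 1 := by
      have h := C.R_conj (hE 1).1 C.Vb
      rw [hEb 1, mul_inv_eq_iff_eq_mul] at h
      rw [mul_assoc, h, inv_mul_cancel_left]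
    have h1 : E 1 * C.u C.f' = C.u C.f' * C.u y * E 1 := by
      have h := C.u_conj (hE 1).1 C.Vf'
      rw [hEf 1, one_smul, mul_inv_eq_iff_eq_mul] at h
      rw [h, C.u_mul C.Vf' hy', C.om_f'' hy, C.aA_zero, mul_one]
    have h2 : E 1 * C.u y = C.u y * E 1 := by
      have h := C.u_conj (hE 1).1 hy'
      rw [show act (E 1).1 y = y by simpa using hEy 1 1, mul_inv_eq_iff_eq_mul] at h
      exact h
    have h3 : C.u (-y) * C.u C.f' = C.u C.f' * C.u (-y) := by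
      rw [C.u_mul hy'.neg C.Vf', C.u_mul C.Vf' hy'.neg, om_neg_left, om_neg_right, C.om_f''' hy,
        C.om_f'' hy, add_comm]
    have h4 : (C.u C.f')⁻¹ * (E 1 * C.u (-y)) * C.u C.f' = E 1 := by
      calc (C.u C.f')⁻¹ * (E 1 * C.u (-y)) * C.u C.f'
          = (C.u C.f')⁻¹ * (E 1 * C.u C.f') * C.u (-y) := by
            simp only [mul_assoc, h3]
        _ = C.u y * E 1 * C.u (-y) := by rw [h1]; group
        _ = _ := by rw [← h2, mul_assoc, ← C.u_inv hy', mul_inv_cancel, mul_one]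
    calc C.s⁻¹ * (E 1 * C.u (-y)) * C.s
        = (C.u C.f')⁻¹ * ((C.R C.b)⁻¹ * ((C.u C.f')⁻¹ * (E 1 * C.u (-y)) * C.u C.f') * C.R C.b) *
          C.u C.f' := by rw [s]; group
      _ = (C.u C.f')⁻¹ * (E 1 * C.u C.f') := by rw [h4, hRc, mul_assoc]
      _ = _ := by rw [h1]; group
  have hK : ∀ l : F, l ≠ 0 → (C.s⁻¹ * E l * C.s)⁻¹ * C.u (l • y) =
      (C.s⁻¹ * C.u (-y) * C.s) * (E 1)⁻¹ := by
    intro l hl
    have hph : C.hh l * C.s⁻¹ = C.s⁻¹ * C.hp l := by rw [hp]; group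
    have hph' : C.s * (C.hh l)⁻¹ = (C.hp l)⁻¹ * C.s := by rw [hp]; group
    have e : C.hh l * (C.s⁻¹ * (E 1 * C.u (-y)) * C.s) * (C.hh l)⁻¹ =
        C.s⁻¹ * ((C.hp l * E 1 * (C.hp l)⁻¹) * (C.hp l * C.u (-y) * (C.hp l)⁻¹)) * C.s := by
      calc C.hh l * (C.s⁻¹ * (E 1 * C.u (-y)) * C.s) * (C.hh l)⁻¹
          = (C.hh l * C.s⁻¹) * (E 1 * C.u (-y)) * (C.s * (C.hh l)⁻¹) := by group
        _ = _ := by rw [hph, hph']; group
    have hy0 : act (C.hp l).1 y = y := by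
      rw [C.hp_fst, act_hG_other (C.om_b hy) (C.om_f'' hy)]
    have e2 : C.hp l * E 1 * (C.hp l)⁻¹ = E l := by
      refine C.eqG (mul_mem (mul_mem (C.hp_mem l) (hE 1).1) (inv_mem (C.hp_mem l))) (hE l).1 ?_
      rw [Prod.fst_mul, Prod.fst_mul, Prod.fst_inv, (hE 1).2, (hE l).2, Ei_conj, C.hp_b hl, act_smul,
        hy0, one_smul, Ei_smul (C.om_b hy)]
    have e3 : C.hh l * E 1 * (C.hh l)⁻¹ = E 1 := by
      rw [← (C.S_comm (C.hh_spec l).1 (hE 1).1).eq, mul_inv_cancel_right]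
    have e4 : C.hh l * (C.u y * E 1) * (C.hh l)⁻¹ = C.u (l • y) * E 1 := by
      rw [conj_mul.symm, C.hh_u hl hy', e3]
    rw [key, e4, e2, C.u_conj (C.hp_mem l) hy'.neg, act_neg, hy0] at e
    rw [eq_mul_inv_iff_mul_eq, mul_assoc, e]
    group
  obtain ⟨c, hc0, hc1⟩ := hF
  set K := (C.s⁻¹ * C.u (-y) * C.s) * (E 1)⁻¹ with hKdef
  set X := fun l => C.s⁻¹ * E l * C.s with hX
  have hu : ∀ l : F, l ≠ 0 → C.u (l • y) = X l * K := fun l hl =>
    inv_mul_eq_iff_eq_mul.1 (hK l hl)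
  have hc' : (1 - c : F) ≠ 0 := sub_ne_zero.2 (Ne.symm hc1)
  have hs : C.u (c • y) * C.u ((1 - c) • y) = C.u ((1 : F) • y) := by
    rw [C.u_mul (hy'.smul _) (hy'.smul _), ← add_smul, add_sub_cancel]
    simp [C.aA_zero]
  have hXadd : X c * X (1 - c) = X 1 := by
    rw [hX]
    calc C.s⁻¹ * E c * C.s * (C.s⁻¹ * E (1 - c) * C.s) = C.s⁻¹ * (E c * E (1 - c)) * C.s := by group
      _ = _ := by rw [hEadd, add_sub_cancel]
  rw [hu c hc0, hu _ hc', hu 1 one_ne_zero, ← hXadd] at hs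
  have hK1 : K = 1 := by
    have h' : X c * ((K * X (1 - c)) * K) = X c * (X (1 - c) * K) := by
      simpa only [mul_assoc] using hs
    have h'' := mul_right_cancel (mul_left_cancel h')
    exact mul_eq_right.1 h''
  have hB : C.s⁻¹ * C.u (-y) * C.s = E 1 := mul_inv_eq_one.1 hK1
  have e : C.s⁻¹ * C.u y * C.s = (C.s⁻¹ * C.u (-y) * C.s)⁻¹ := by
    rw [← C.u_inv hy']; group
  rw [e, hB]
  exact inv_mem (hE 1).1

theorem s_A' (t : F) : C.s⁻¹ * C.aA t * C.s ∈ C.Gp := C.s_inv_S (C.aA_spec t).1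

/-- Passing the short root elements through the short Weyl element. -/
theorem u_pass {z : V F n} (hz : Vn (C.k' : ℕ) z) (γ0 : F) :
    ∃ γ : F, ∃ p ∈ C.P, C.u z * C.u (γ0 • C.f') * C.s = C.u (γ • C.f') * C.s * p := by
  set z' := z + γ0 • C.f'
  have hz' : Vn (C.k' : ℕ) z' := hz.add (C.Vf'.smul γ0)
  set γ := z' (Sum.inr C.k')
  set α := z' (Sum.inl C.k')
  set y := z' - γ • C.f' - α • C.b with hy
  have hyV : Vn ((C.k' : ℕ) + 1) y := fun i hi => by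
    rcases Nat.lt_or_ge i C.k' with h | h
    · have hne : i ≠ C.k' := fun e => by subst e; omega
      simp [hy, b, f', be_inl, be_inr, bf_inl, bf_inr, hne, (hz' i h).1, (hz' i h).2]
    · obtain rfl : i = C.k' := Fin.ext (by omega)
      simp [hy, b, f', be_inl, be_inr, bf_inl, bf_inr, γ, α]
  have hyV' : Vn (C.k' : ℕ) y := hyV.mono (Nat.le_succ _)
  have hw : Vn (C.k' : ℕ) (α • C.b + y) := (C.Vb.smul _).add hyV'
  set τ := om (γ • C.f') (α • C.b + y) with hτ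
  refine ⟨γ, (C.s⁻¹ * C.u (α • C.b) * C.s) * (C.s⁻¹ * C.u y * C.s) *
    (C.s⁻¹ * C.aA (om z (γ0 • C.f') - τ) * C.s), ?_, ?_⟩
  · exact mul_mem (mul_mem (C.u_rb α ▸ C.s_m α) (C.P_G (C.s_u hyV))) (C.P_G (C.s_A' _))
  · have e1 : C.u (α • C.b) * C.u y = C.u (α • C.b + y) := by
      rw [C.u_mul (C.Vb.smul _) hyV']; simp [C.om_b hyV, C.aA_zero]
    have e2 : C.u z' = C.u (γ • C.f') * C.u (α • C.b + y) * C.aA (-τ) := by
      rw [C.u_mul (C.Vf'.smul _) hw, mul_assoc, C.aA_add, add_neg_cancel, C.aA_zero, mul_one]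
      congr 1; rw [hy]; abel
    calc C.u z * C.u (γ0 • C.f') * C.s
        = C.u z' * C.aA (om z (γ0 • C.f')) * C.s := by rw [C.u_mul hz (C.Vf'.smul _)]
      _ = C.u (γ • C.f') * (C.u (α • C.b) * C.u y * C.aA (om z (γ0 • C.f') - τ)) * C.s := by
          rw [e2, mul_assoc (C.u _ * C.u _) (C.aA _) (C.aA _), C.aA_add, e1, neg_add_eq_sub]; group
      _ = _ := by group

end Ctx

end CfsgLib.Chev.CT.SpAm
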