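/-
The three double cosets of the stabiliser of the first vector exhaust the group of lifts.
-/
import Cfsg.Agent.Lib.Chev.CT.SpAmalgam.Cross

set_option autoImplicit false

namespace CfsgLib.Chev.CT.SpAm

open Matrix

universe u v

variable {F : Type u} [Field F] {n : ℕ} {H : Type v} [Group H]

namespace Ctx

variable (C : Ctx F n H)

/-- The coset fixing the first line. -/
def Y0 (g : Sp F n × H) : Prop := ∃ l : F, l ≠ 0 ∧ ∃ p ∈ C.P, g = C.hh l * p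

/-- The coset moving the first vector within its perpendicular. -/
def Y1 (g : Sp F n × H) : Prop :=
  ∃ q ∈ C.Gp, ∃ γ : F, ∃ p ∈ C.P, g = q * C.u (γ • C.f') * C.s * p

/-- The big coset. -/
def Y2 (g : Sp F n × H) : Prop :=
  ∃ (x : V F n) (t l : F), Vn (C.k' : ℕ) x ∧ l ≠ 0 ∧ ∃ p ∈ C.P, g = C.u x * C.aA t * C.W * C.hh l * p

/-- The union of the three cosets. -/
def Y (g : Sp F n × H) : Prop := C.Y0 g ∨ C.Y1 g ∨ C.Y2 g

theorem Y_mul_P {g p : Sp F n × H} (hg : C.Y g) (hp : p ∈ C.P) : C.Y (g * p) := by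
  rcases hg with ⟨l, hl, p', hp', rfl⟩ | ⟨q, hq, γ, p', hp', rfl⟩ | ⟨x, t, l, hx, hl, p', hp', rfl⟩
  · exact Or.inl ⟨l, hl, p' * p, mul_mem hp' hp, mul_assoc _ _ _⟩
  · exact Or.inr (Or.inl ⟨q, hq, γ, p' * p, mul_mem hp' hp, mul_assoc _ _ _⟩)
  · exact Or.inr (Or.inr ⟨x, t, l, hx, hl, p' * p, mul_mem hp' hp, mul_assoc _ _ _⟩)

theorem Y_G {g q : Sp F n × H} (hq : q ∈ C.Gp) (hg : C.Y g) : C.Y (q * g) := by
  rcases hg with ⟨l, hl, p, hp, rfl⟩ | ⟨q', hq', γ, p, hp, rfl⟩ | ⟨x, t, l, hx, hl, p, hp, rfl⟩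
  · refine Or.inl ⟨l, hl, q * p, mul_mem (C.P_G hq) hp, ?_⟩
    rw [← mul_assoc, (C.S_comm (C.hh_spec l).1 hq).eq, mul_assoc]
  · exact Or.inr (Or.inl ⟨q * q', mul_mem hq hq', γ, p, hp, by group⟩)
  · refine Or.inr (Or.inr ⟨act q.1 x, t, l, hx.act (C.fst_Gp hq), hl, q * p,
      mul_mem (C.P_G hq) hp, ?_⟩)
    have h := C.S_comm (mul_mem (mul_mem (C.aA_spec t).1 C.W_spec.1) (C.hh_spec l).1) hq
    rw [← C.u_conj hq hx]
    calc q * (C.u x * C.aA t * C.W * C.hh l * p)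
        = (q * C.u x * q⁻¹) * (q * (C.aA t * C.W * C.hh l)) * p := by group
      _ = _ := by rw [h.eq]; group

/-- The two small cosets. -/
def Y01 (g : Sp F n × H) : Prop := C.Y0 g ∨ C.Y1 g

theorem Y01_A (t : F) {g : Sp F n × H} (hg : C.Y01 g) : C.Y01 (C.aA t * g) := by
  rcases hg with ⟨l, hl, p, hp, rfl⟩ | ⟨q, hq, γ, p, hp, rfl⟩
  · refine Or.inl ⟨l, hl, C.aA (t / (l * l)) * p, mul_mem (C.P_A _) hp, ?_⟩
    rw [← mul_assoc (C.hh l), C.hh_aA hl, ← mul_assoc]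
    congr 3
    field_simp
  · refine Or.inr ⟨q, hq, γ, (C.s⁻¹ * C.aA t * C.s) * p, mul_mem (C.P_G (C.s_A' t)) hp, ?_⟩
    calc C.aA t * (q * C.u (γ • C.f') * C.s * p)
        = (C.aA t * q) * C.u (γ • C.f') * C.s * p := by group
      _ = q * (C.aA t * C.u (γ • C.f')) * C.s * p := by
          rw [← (C.S_comm (C.aA_spec t).1 hq).eq]; group
      _ = _ := by rw [(C.aA_u (C.Vf'.smul γ) t).eq]; group

theorem Y01_h {μ : F} (hμ : μ ≠ 0) {g : Sp F n × H} (hg : C.Y01 g) : C.Y01 (C.hh μ * g) := by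
  rcases hg with ⟨l, hl, p, hp, rfl⟩ | ⟨q, hq, γ, p, hp, rfl⟩
  · exact Or.inl ⟨μ * l, mul_ne_zero hμ hl, p, hp, by rw [← mul_assoc, C.hh_mul hμ hl]⟩
  · refine Or.inr ⟨q, hq, μ * γ, (C.s⁻¹ * C.hh μ * C.s) * p,
      mul_mem (C.P_G (C.s_inv_S (C.hh_spec μ).1)) hp, ?_⟩
    rw [← smul_smul, ← C.hh_u hμ (C.Vf'.smul γ)]
    calc C.hh μ * (q * C.u (γ • C.f') * C.s * p)
        = (C.hh μ * q) * C.u (γ • C.f') * C.s * p := by group
      _ = _ := by rw [← (C.S_comm (C.hh_spec μ).1 hq).eq]; group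

theorem Y2_A (t : F) {g : Sp F n × H} (hg : C.Y2 g) : C.Y2 (C.aA t * g) := by
  obtain ⟨x, t', l, hx, hl, p, hp, rfl⟩ := hg
  refine ⟨x, t + t', l, hx, hl, p, hp, ?_⟩
  rw [← C.aA_add, ← mul_assoc (C.u x), ← (C.aA_u hx t).eq]; group

theorem Y_A (t : F) {g : Sp F n × H} (hg : C.Y g) : C.Y (C.aA t * g) := by
  rcases hg with h | h | h
  · exact (C.Y01_A t (Or.inl h)).elim Or.inl fun e => Or.inr (Or.inl e)
  · exact (C.Y01_A t (Or.inr h)).elim Or.inl fun e => Or.inr (Or.inl e)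
  · exact Or.inr (Or.inr (C.Y2_A t h))

theorem Y_h {μ : F} (hμ : μ ≠ 0) {g : Sp F n × H} (hg : C.Y g) : C.Y (C.hh μ * g) := by
  rcases hg with h | h | ⟨x, t, l, hx, hl, p, hp, rfl⟩
  · exact (C.Y01_h hμ (Or.inl h)).elim Or.inl fun e => Or.inr (Or.inl e)
  · exact (C.Y01_h hμ (Or.inr h)).elim Or.inl fun e => Or.inr (Or.inl e)
  · refine Or.inr (Or.inr ⟨μ • x, μ * μ * t, μ⁻¹ * l, hx.smul μ,
      mul_ne_zero (inv_ne_zero hμ) hl, p, hp, ?_⟩)
    rw [← C.hh_mul (inv_ne_zero hμ) hl, ← C.hh_u hμ hx]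
    calc C.hh μ * (C.u x * C.aA t * C.W * C.hh l * p)
        = (C.hh μ * C.u x * (C.hh μ)⁻¹) * (C.hh μ * C.aA t) * C.W * C.hh l * p := by group
      _ = (C.hh μ * C.u x * (C.hh μ)⁻¹) * C.aA (μ * μ * t) * (C.hh μ * C.W) * C.hh l * p := by
          rw [C.hh_aA hμ]; group
      _ = _ := by rw [C.hh_W hμ]; group

theorem Y_m (r : F) {g : Sp F n × H} (hg : C.Y g) : C.Y (C.m r * g) := by
  rcases hg with ⟨l, hl, p, hp, rfl⟩ | ⟨q, hq, γ, p, hp, rfl⟩ | ⟨x, t, l, hx, hl, p, hp, rfl⟩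
  · refine Or.inl ⟨l, hl, C.m (r / l) * p, mul_mem (C.P_m _) hp, ?_⟩
    have h := C.hh_m hl (r / l)
    rw [mul_inv_eq_iff_eq_mul, show l * (r / l) = r by field_simp] at h
    rw [← mul_assoc, ← mul_assoc, h]
  · set z := act q.1⁻¹ (r • C.b)
    have hz : Vn (C.k' : ℕ) z := (C.Vb.smul r).act (inv_mem (C.fst_Gp hq))
    obtain ⟨γ', p', hp', e⟩ := C.u_pass hz γ
    refine Or.inr (Or.inl ⟨q, hq, γ', p' * p, mul_mem hp' hp, ?_⟩)
    have h := C.u_conj hq hz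
    rw [act_act_inv, C.u_rb, mul_inv_eq_iff_eq_mul] at h
    calc C.m r * (q * C.u (γ • C.f') * C.s * p)
        = (C.m r * q) * C.u (γ • C.f') * C.s * p := by group
      _ = q * (C.u z * C.u (γ • C.f') * C.s) * p := by rw [← h]; group
      _ = _ := by rw [e]; group
  · refine Or.inr (Or.inr ⟨r • C.b + x, om (r • C.b) x + t, l, (C.Vb.smul r).add hx, hl, p, hp, ?_⟩)
    rw [← C.aA_add, ← mul_assoc (C.u _), ← C.u_mul (C.Vb.smul r) hx, C.u_rb]; group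

theorem Sk_cases {g : Sp F n × H} (hg : g ∈ C.A.LS C.k) :
    (∃ l t : F, l ≠ 0 ∧ g = C.hh l * C.aA t) ∨
      ∃ c l t : F, l ≠ 0 ∧ g = C.aA c * C.W * C.hh l * C.aA t := by
  obtain ⟨α, β, e⟩ := FS_act_fst (C.A.LS_fst hg)
  change act g.1 C.a = α • C.a + β • C.f at e
  have fix : ∀ p : Sp F n × H, p ∈ C.A.LS C.k → act p.1 C.a = C.a → ∃ t, p = C.aA t := by
    intro p hp h1
    have hz := C.A.LS_fst hp
    have hspan := span_of_others (v := act p.1 C.f) (k := C.k) (fun z hz' => by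
      conv_lhs => rw [← hz z hz']
      rw [om_act]; exact (others_om hz').2)
    have h2 : (act p.1 C.f) (Sum.inr C.k) = 1 := by
      have h3 : om C.a (act p.1 C.f) = 1 := by
        conv_lhs => rw [← h1]
        rw [om_act, C.om_af]
      rw [a, om_swap, om_be_right, neg_neg] at h3
      exact h3
    rw [h2, one_smul] at hspan
    refine ⟨(act p.1 C.f) (Sum.inl C.k), C.S_ext hp (C.aA_spec _).1 ?_ ?_⟩
    · rw [h1, (C.aA_spec _).2]; simp
    · rw [(C.aA_spec _).2, act_T, C.om_af, mul_one]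
      conv_lhs => rw [hspan]
      exact add_comm _ _
  by_cases hb : β = 0
  · subst hb
    rw [zero_smul, add_zero] at e
    have hα : α ≠ 0 := fun e0 => by
      have := om_act g.1 C.a C.f
      rw [e, e0, zero_smul, om_zero_left, C.om_af] at this
      exact zero_ne_one this
    obtain ⟨t, ht⟩ := fix ((C.hh α)⁻¹ * g) (mul_mem (inv_mem (C.hh_spec _).1) hg) (by
      rw [Prod.fst_mul, Prod.fst_inv, act_mul, e]; exact act_inv_eq (C.hh_a hα))
    exact Or.inl ⟨α, t, hα, inv_mul_eq_iff_eq_mul.1 ht⟩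
  · obtain ⟨t, ht⟩ := fix ((C.aA (α / β) * C.W * C.hh β)⁻¹ * g)
      (mul_mem (inv_mem (mul_mem (mul_mem (C.aA_spec _).1 C.W_spec.1) (C.hh_spec _).1)) hg) (by
      rw [Prod.fst_mul, Prod.fst_inv, act_mul, e]
      refine act_inv_eq ?_
      rw [Prod.fst_mul, Prod.fst_mul, act_mul, act_mul, C.hh_a hb, act_smul, C.W_a, act_smul,
        (C.aA_spec _).2, act_T, C.om_af]
      match_scalars <;> field_simp)
    exact Or.inr ⟨_, β, t, hb, inv_mul_eq_iff_eq_mul.1 ht⟩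

theorem Y_Sk {g : Sp F n × H} (hg : g ∈ C.A.LS C.k) : C.Y g := by
  rcases C.Sk_cases hg with ⟨l, t, hl, rfl⟩ | ⟨c, l, t, hl, rfl⟩
  · exact Or.inl ⟨l, hl, _, C.P_A t, rfl⟩
  · exact Or.inr (Or.inr ⟨0, c, l, Vn_zero, hl, _, C.P_A t, by rw [C.u_zero, one_mul]⟩)

theorem Y1_R {x : V F n} (hx : Vn (C.k' : ℕ) x) : C.Y01 (C.R x) := by
  by_cases h0 : x = 0
  · exact Or.inl ⟨1, one_ne_zero, 1, one_mem _, by rw [h0, C.R_zero, C.hh_one, one_mul]⟩
  obtain ⟨q, hq, e⟩ := C.exists_q hx h0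
  refine Or.inr ⟨q, hq, -1, C.u (-C.f') * q⁻¹, mul_mem (C.P_u C.Vf'.neg) (inv_mem (C.P_G hq)), ?_⟩
  rw [← e, ← C.R_conj hq C.Vb, show (-1 : F) • C.f' = -C.f' by simp, ← C.u_inv C.Vf', s]
  group

theorem Y_Rs (δ : F) : C.Y (C.R (δ • C.f') * C.s) := by
  by_cases hδ : δ = 0
  · exact Or.inr (Or.inl ⟨1, one_mem _, 0, 1, one_mem _, by
      rw [hδ, zero_smul, C.R_zero, C.u_zero, one_mul, one_mul, mul_one, one_mul]⟩)
  obtain ⟨hg, hg'⟩ := C.lfS_spec (wd_mem_FS C.k (-δ))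
  set g := lf (C.A.LS C.k) (wd (be C.k) (bf C.k) (-δ))
  set q := C.s * g * C.s⁻¹ with hqdef
  have hq : q ∈ C.Gp := C.s_S hg
  have hq1 : q.1 = wd C.b C.f' (-δ) := by
    rw [hqdef, Prod.fst_mul, Prod.fst_mul, Prod.fst_inv, hg', wd_conj,
      show be C.k = C.a from rfl, show bf C.k = C.f from rfl, C.act_s_a, C.act_s_f]
  have hqb : act q.1 C.b = δ • C.f' := by
    rw [hq1, act_wd_fst C.om_bf' (neg_ne_zero.2 hδ), neg_smul, neg_neg]
  have hqf : act q.1 C.f' = (-δ⁻¹) • C.b := by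
    rw [hq1, act_wd_snd C.om_bf' (neg_ne_zero.2 hδ), inv_neg]
  have e1 : q * C.s * q⁻¹ = (q * C.u C.f' * q⁻¹) * (q * C.R C.b * q⁻¹) * (q * C.u C.f' * q⁻¹) := by
    rw [s]; group
  rw [C.u_conj hq C.Vf', C.R_conj hq C.Vb, hqb, hqf, C.u_rb] at e1
  have e2 : C.R (δ • C.f') * C.s =
      (C.m (-δ⁻¹))⁻¹ * (q * C.s * q⁻¹) * (C.m (-δ⁻¹))⁻¹ * C.s := by rw [e1]; group
  have hm : (C.m (-δ⁻¹))⁻¹ = C.m δ⁻¹ :=
    inv_eq_of_mul_eq_one_right (by rw [C.m_add, neg_add_cancel, C.m_zero])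
  have e3 : C.R (δ • C.f') * C.s = C.m δ⁻¹ * ((q * C.hp (-1)) * ((C.hh (-1))⁻¹ * g⁻¹)) *
      (C.s⁻¹ * C.m δ⁻¹ * C.s) := by
    rw [e2, hm]
    calc C.m δ⁻¹ * (q * C.s * q⁻¹) * C.m δ⁻¹ * C.s
        = C.m δ⁻¹ * (q * (C.s * C.s) * g⁻¹) * (C.s⁻¹ * C.m δ⁻¹ * C.s) := by rw [hqdef]; group
      _ = _ := by rw [C.s_sq]; group
  rw [e3]
  refine C.Y_mul_P (C.Y_m _ (C.Y_G (mul_mem hq (C.hp_mem _)) (C.Y_Sk ?_))) (C.s_m _)
  exact mul_mem (inv_mem (C.hh_spec _).1) (inv_mem hg)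

theorem Y_W01 {g : Sp F n × H} (hg : C.Y01 g) : C.Y (C.W * g) := by
  rcases hg with ⟨l, hl, p, hp, rfl⟩ | ⟨q, hq, γ, p, hp, rfl⟩
  · exact Or.inr (Or.inr ⟨0, 0, l, Vn_zero, hl, p, hp, by
      rw [C.u_zero, C.aA_zero, one_mul, one_mul, mul_assoc]⟩)
  have hne : (-1 : F) ≠ 0 := neg_ne_zero.2 one_ne_zero
  have hR : C.W * C.u (γ • C.f') * C.W⁻¹ = C.R ((-γ) • C.f') := by
    rw [R, show (-γ) • C.f' = (-1 : F) • (γ • C.f') by rw [smul_smul, neg_one_mul],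
      ← C.hh_u hne (C.Vf'.smul γ), ← C.W_sq]
    group
  have hS : C.W * C.s = C.s * (C.s⁻¹ * C.W * C.s) := by group
  have e : C.W * (q * C.u (γ • C.f') * C.s * p) =
      q * (C.R ((-γ) • C.f') * C.s) * ((C.s⁻¹ * C.W * C.s) * p) := by
    calc C.W * (q * C.u (γ • C.f') * C.s * p)
        = (C.W * q) * C.u (γ • C.f') * C.s * p := by group
      _ = q * (C.W * C.u (γ • C.f') * C.W⁻¹) * (C.W * C.s) * p := by
          rw [← (C.S_comm C.W_spec.1 hq).eq]; group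
      _ = _ := by rw [hR, hS]; group
  rw [e]
  exact C.Y_mul_P (C.Y_G hq (C.Y_Rs _)) (mul_mem (C.P_G (C.s_inv_S C.W_spec.1)) hp)

theorem Y_W {g : Sp F n × H} (hg : C.Y g) : C.Y (C.W * g) := by
  rcases hg with h | h | ⟨x, t, l, hx, hl, p, hp, rfl⟩
  · exact C.Y_W01 (Or.inl h)
  · exact C.Y_W01 (Or.inr h)
  set g' := C.W * C.aA t * C.W * C.hh l with hg'def
  have hg' : g' ∈ C.A.LS C.k :=
    mul_mem (mul_mem (mul_mem C.W_spec.1 (C.aA_spec t).1) C.W_spec.1) (C.hh_spec l).1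
  have hR : (C.W * C.hh l)⁻¹ * C.u x * (C.W * C.hh l) = C.R (l • x) := by
    have h := C.hh_W hl
    rw [R, ← C.hh_u hl hx, show C.W * C.hh l = (C.hh l)⁻¹ * C.W by
      rw [C.hh_inv hl, C.hh_W (inv_ne_zero hl), inv_inv]]
    group
  have e : C.W * (C.u x * C.aA t * C.W * C.hh l * p) = g' * C.R (l • x) * p := by
    rw [← hR, hg'def]
    calc C.W * (C.u x * C.aA t * C.W * C.hh l * p)
        = C.W * (C.u x * C.aA t) * (C.W * C.hh l) * p := by group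
      _ = _ := by rw [← (C.aA_u hx t).eq]; group
  rw [e]
  refine C.Y_mul_P ?_ hp
  rcases C.Sk_cases hg' with ⟨l', t', hl', e'⟩ | ⟨c, l', t', hl', e'⟩
  · rw [e', mul_assoc]
    exact (C.Y01_h hl' (C.Y01_A t' (C.Y1_R (hx.smul l)))).elim Or.inl fun e => Or.inr (Or.inl e)
  · rw [e', mul_assoc, mul_assoc, mul_assoc]
    exact C.Y_A c (C.Y_W01 (C.Y01_h hl' (C.Y01_A t' (C.Y1_R (hx.smul l)))))

theorem W_inv : C.W⁻¹ = C.W * C.hh (-1) := by
  refine inv_eq_of_mul_eq_one_right ?_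
  rw [← mul_assoc, C.W_sq, C.hh_mul (neg_ne_zero.2 one_ne_zero) (neg_ne_zero.2 one_ne_zero),
    neg_one_mul, neg_neg, C.hh_one]

theorem Gp_le : C.Gp ≤ C.A.Gam (C.k : ℕ) :=
  C.A.Gam_le (fun l hl => C.A.LS_le (by have := C.hlt; omega))
    (fun i hi hi' => C.A.LM_le (by have := C.hlt; omega) hi')

/-- Generators of the group of lifts. -/
def gens : Set (Sp F n × H) :=
  {g | g ∈ C.Gp} ∪ {g | ∃ t, g = C.aA t} ∪ {g | ∃ r, g = C.m r} ∪
    {g | ∃ l : F, l ≠ 0 ∧ g = C.hh l} ∪ {C.W}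

theorem Gam_le_gens : C.A.Gam (C.k : ℕ) ≤ Subgroup.closure C.gens := by
  have hA : ∀ t, C.aA t ∈ Subgroup.closure C.gens := fun t =>
    Subgroup.subset_closure (Or.inl (Or.inl (Or.inl (Or.inr ⟨t, rfl⟩))))
  have hm : ∀ r, C.m r ∈ Subgroup.closure C.gens := fun r =>
    Subgroup.subset_closure (Or.inl (Or.inl (Or.inr ⟨r, rfl⟩)))
  have hh : ∀ l, l ≠ 0 → C.hh l ∈ Subgroup.closure C.gens := fun l hl =>
    Subgroup.subset_closure (Or.inl (Or.inr ⟨l, hl, rfl⟩))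
  have hW : C.W ∈ Subgroup.closure C.gens := Subgroup.subset_closure (Or.inr rfl)
  have hG : ∀ q ∈ C.Gp, q ∈ Subgroup.closure C.gens := fun q hq =>
    Subgroup.subset_closure (Or.inl (Or.inl (Or.inl (Or.inl hq))))
  refine C.A.Gam_le (fun l hl g hg => ?_) (fun i hi hi' g hg => ?_)
  · by_cases e : l = C.k
    · subst e
      rcases C.Sk_cases hg with ⟨l, t, hl, rfl⟩ | ⟨c, l, t, hl, rfl⟩
      · exact mul_mem (hh l hl) (hA t)
      · exact mul_mem (mul_mem (mul_mem (hA c) hW) (hh l hl)) (hA t)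
    · refine hG g (C.A.LS_le ?_ hg)
      have h1 : (l : ℕ) ≠ C.k := fun e' => e (Fin.ext e')
      have := C.hk; omega
  · by_cases e : i = C.k
    · subst e
      obtain ⟨p, q, r, e'⟩ := M_decomp C.hk (C.A.LM_fst hi' hg)
      have : g = C.aA p * C.Tb q * C.m r := by
        refine C.fM.eq hg (mul_mem (mul_mem (C.aA_mem_M p) (C.Tb_spec q).1) (C.m_spec r).1) ?_
        rw [Prod.fst_mul, Prod.fst_mul, (C.aA_spec p).2, (C.Tb_spec q).2.2, (C.m_spec r).2, e']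
        rfl
      rw [this]
      exact mul_mem (mul_mem (hA p) (hG _ (C.Tb_spec q).2.1)) (hm r)
    · refine hG g (C.A.LM_le ?_ hi' hg)
      have h1 : (i : ℕ) ≠ C.k := fun e' => e (Fin.ext e')
      have := C.hk; omega

theorem mem_Y {g : Sp F n × H} (hg : g ∈ C.A.Gam (C.k : ℕ)) : C.Y g := by
  have h := C.Gam_le_gens hg
  clear hg
  induction h using Subgroup.closure_induction_left with
  | one => exact Or.inl ⟨1, one_ne_zero, 1, one_mem _, by rw [C.hh_one, one_mul]⟩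
  | mul_left x hx y hy ih =>
    rcases hx with (((h | ⟨t, rfl⟩) | ⟨r, rfl⟩) | ⟨l, hl, rfl⟩) | rfl
    · exact C.Y_G h ih
    · exact C.Y_A t ih
    · exact C.Y_m r ih
    · exact C.Y_h hl ih
    · exact C.Y_W ih
  | inv_mul_cancel x hx y hy ih =>
    rcases hx with (((h | ⟨t, rfl⟩) | ⟨r, rfl⟩) | ⟨l, hl, rfl⟩) | rfl
    · exact C.Y_G (inv_mem h) ih
    · rw [C.aA_inv]; exact C.Y_A _ ih
    · rw [show (C.m r)⁻¹ = C.m (-r) from
        inv_eq_of_mul_eq_one_right (by rw [C.m_add, add_neg_cancel, C.m_zero])]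
      exact C.Y_m _ ih
    · rw [C.hh_inv hl]; exact C.Y_h (inv_ne_zero hl) ih
    · rw [C.W_inv, mul_assoc]; exact C.Y_W (C.Y_h (neg_ne_zero.2 one_ne_zero) ih)

theorem step_func : Func (C.A.Gam (C.k : ℕ)) := by
  intro g hg e
  have ha : act g.1 C.a = C.a := by rw [e, act_one]
  rcases C.mem_Y hg with ⟨l, hl, p, hp, rfl⟩ | ⟨q, hq, γ, p, hp, rfl⟩ | ⟨x, t, l, hx, hl, p, hp, rfl⟩
  · rw [Prod.fst_mul, act_mul, C.P_fix hp, C.hh_a hl] at ha
    have h1 : l = 1 := by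
      have := congrArg (fun v => om v C.f) ha
      simpa [C.om_af] using this
    subst h1
    rw [C.hh_one, one_mul] at e ⊢
    exact C.P_func p hp e
  · exfalso
    have hqb : Vn (C.k' : ℕ) (act q.1 C.b) := C.Vb.act (C.fst_Gp hq)
    simp only [Prod.fst_mul, act_mul, C.P_fix hp, C.act_s_a, C.u_fst (C.Vf'.smul γ)] at ha
    rw [act_Ei (by simp [C.om_a C.Vf']), C.om_ab, om_smul_left, C.om_f'b, zero_smul, add_zero,
      act_add, act_smul, C.fix_a hq] at ha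
    have h2 := congrArg (fun v => om v C.f) ha
    simp [C.om_f_ hqb, C.om_af] at h2
    obtain rfl : γ = -1 := by rw [← h2, neg_neg]
    have h3 : act q.1 C.b = 0 := by
      rw [← sub_eq_zero] at ha; rw [← ha]; simp
    exact C.b_ne (act_inj q.1 (by rw [h3, act_zero]))
  · exfalso
    simp only [Prod.fst_mul, act_mul, C.P_fix hp, C.hh_a hl, act_smul, C.W_a, (C.aA_spec t).2,
      C.u_fst hx] at ha
    rw [act_T, C.om_af, act_Ei (C.om_a hx)] at ha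
    have h2 := congrArg (fun v => om C.a v) ha
    simp [C.om_af, C.om_a hx] at h2
    exact hl h2

theorem step_proj : (C.A.Gam (C.k : ℕ)).map (MonoidHom.fst (Sp F n) H) = Gn F n (C.k : ℕ) := by
  apply le_antisymm
  · rw [Subgroup.map_le_iff_le_comap]
    refine C.A.Gam_le (fun l hl g hg => ?_) (fun i hi hi' g hg => ?_) <;> rintro z ⟨j, hj, e⟩
    · exact C.A.LS_fst hg z ⟨j, fun e' => by subst e'; omega, e⟩
    · rcases e with rfl | rfl
      · exact C.A.LM_fst hi' hg _ ⟨j, Or.inl rfl⟩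
      · exact C.A.LM_fst hi' hg _ ⟨j, Or.inr ⟨by omega, by omega, rfl⟩⟩
  intro g hg
  have hk := C.hk
  have hu : ∀ x, Vn (C.k' : ℕ) x → C.u x ∈ C.A.Gam (C.k : ℕ) := by
    intro x hx
    by_cases h0 : x = 0
    · rw [h0, C.u_zero]; exact one_mem _
    obtain ⟨q, hq, e⟩ := C.exists_q hx h0
    rw [C.u_spec hq e]
    exact mul_mem (mul_mem (C.Gp_le hq) (C.A.LM_le le_rfl C.hk1 (C.m_spec 1).1)) (inv_mem (C.Gp_le hq))
  have hS : C.A.LS C.k ≤ C.A.Gam (C.k : ℕ) := C.A.LS_le le_rfl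
  set v := act g C.a with hv
  have hvV : Vn (C.k : ℕ) v := C.Va.act hg
  set α := v (Sum.inl C.k)
  set β := v (Sum.inr C.k)
  set x := v - β • C.f - α • C.a with hxdef
  have hx : Vn (C.k' : ℕ) x := fun i hi => by
    rcases Nat.lt_or_ge i C.k with h | h
    · have hne : i ≠ C.k := fun e => by subst e; omega
      simp [hxdef, a, f, be_inl, be_inr, bf_inl, bf_inr, hne, (hvV i h).1, (hvV i h).2]
    · obtain rfl : i = C.k := Fin.ext (by omega)
      simp [hxdef, a, f, be_inl, be_inr, bf_inl, bf_inr, α, β]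
  have main : ∃ e ∈ C.A.Gam (C.k : ℕ), act e.1 C.a = v := by
    by_cases hb : β = 0
    · by_cases hx0 : x = 0
      · have hva : v = α • C.a := by
          rw [hxdef, hb, zero_smul, sub_zero, sub_eq_zero] at hx0; exact hx0
        have hα : α ≠ 0 := fun e0 => by
          rw [e0, zero_smul] at hva
          have h := om_act g C.a C.f
          rw [← hv, hva, om_zero_left, C.om_af] at h
          exact zero_ne_one h
        exact ⟨C.hh α, hS (C.hh_spec α).1, by rw [C.hh_a hα, hva]⟩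
      · obtain ⟨q, hq, e⟩ := C.exists_q hx hx0
        refine ⟨q * C.u ((-α) • C.f') * C.s, mul_mem (mul_mem (C.Gp_le hq) (hu _ (C.Vf'.smul _))) ?_, ?_⟩
        · rw [s]
          refine mul_mem (mul_mem (hu _ C.Vf') ?_) (hu _ C.Vf')
          rw [R]
          exact mul_mem (mul_mem (inv_mem (hS C.W_spec.1)) (hu _ C.Vb)) (hS C.W_spec.1)
        · rw [Prod.fst_mul, Prod.fst_mul, act_mul, act_mul, C.act_s_a, C.u_fst (C.Vf'.smul _),
            act_Ei (by simp [C.om_a C.Vf']), C.om_ab, om_smul_left, C.om_f'b, zero_smul, add_zero,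
            act_add, act_smul, C.fix_a hq, e, hxdef, hb]
          module
    · refine ⟨C.u (β⁻¹ • x) * C.aA (α / β) * C.W * C.hh β, mul_mem (mul_mem (mul_mem
        (hu _ (hx.smul _)) (hS (C.aA_spec _).1)) (hS C.W_spec.1)) (hS (C.hh_spec _).1), ?_⟩
      simp only [Prod.fst_mul, act_mul, C.hh_a hb, act_smul, C.W_a, (C.aA_spec _).2,
        C.u_fst (hx.smul _)]
      rw [act_T, C.om_af, act_Ei (by simp [C.om_a hx])]
      simp only [om_add_right, om_smul_right, om_smul_left, C.om_af, om_self, C.om_f_ hx, C.om_a' hx]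
      rw [hxdef]
      match_scalars <;> field_simp <;> ring
  obtain ⟨e, he, hea⟩ := main
  have heG : e.1 ∈ Gn F n (C.k : ℕ) := by
    intro z hz
    obtain ⟨j, hj, ez⟩ := hz
    have : ∀ g ∈ C.A.Gam (C.k : ℕ), act g.1 z = z := by
      intro g hg
      have hle : C.A.Gam (C.k : ℕ) ≤ (Gn F n (C.k : ℕ)).comap (MonoidHom.fst (Sp F n) H) := by
        refine C.A.Gam_le (fun l hl g hg => ?_) (fun i hi hi' g hg => ?_) <;> rintro z ⟨j, hj, e⟩
        · exact C.A.LS_fst hg z ⟨j, fun e' => by subst e'; omega, e⟩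
        · rcases e with rfl | rfl
          · exact C.A.LM_fst hi' hg _ ⟨j, Or.inl rfl⟩
          · exact C.A.LM_fst hi' hg _ ⟨j, Or.inr ⟨by omega, by omega, rfl⟩⟩
      exact hle hg z ⟨j, hj, ez⟩
    exact this e he
  obtain ⟨y, t, hy, hrest⟩ := stab_decomp (mul_mem (inv_mem heG) hg) (by
    show act (e.1⁻¹ * g) C.a = C.a
    rw [act_mul, ← hv]; exact act_inv_eq hea)
  rw [← C.hk] at hy hrest
  rw [← C.hproj] at hrest
  obtain ⟨q, hq, eq⟩ := hrest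
  change q.1 = _ at eq
  refine ⟨e * (C.u y * C.aA t * q),
    mul_mem he (mul_mem (mul_mem (hu y hy) (hS (C.aA_spec t).1)) (C.Gp_le hq)), ?_⟩
  show (e * (C.u y * C.aA t * q)).1 = g
  rw [Prod.fst_mul, Prod.fst_mul, Prod.fst_mul, C.u_fst hy, (C.aA_spec t).2, eq]
  show e.1 * (Ei (be C.k) y * T (be C.k) t * _) = g
  group

end Ctx

end CfsgLib.Chev.CT.SpAm
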