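/-
The symplectic group is the universal completion of the amalgam of its small subgroups.
-/
import Cfsg.Agent.Lib.Chev.CT.SpAmalgam.Cells

set_option autoImplicit false

namespace CfsgLib.Chev.CT.SpAm

open Matrix

universe u v

variable {F : Type u} [Field F] {n : ℕ} {H : Type v} [Group H]

theorem Gn_eq_bot {j : ℕ} (hj : n ≤ j) : Gn F n j = ⊥ := by
  refine (Subgroup.eq_bot_iff_forall _).2 fun g hg => Sp_ext_basis (fun i => ?_) (fun i => ?_)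
  · rw [act_one]; exact hg _ ⟨i, by omega, Or.inl rfl⟩
  · rw [act_one]; exact hg _ ⟨i, by omega, Or.inr rfl⟩

theorem Amal.Gam_eq_bot (A : Amal F n H) {j : ℕ} (hj : n ≤ j) : A.Gam j = ⊥ :=
  le_bot_iff.1 (A.Gam_le (fun l hl => by omega) (fun i hi => by omega))

/-- The inductive statement. -/
def Amal.Good (A : Amal F n H) (j : ℕ) : Prop :=
  Func (A.Gam j) ∧ (A.Gam j).map (MonoidHom.fst (Sp F n) H) = Gn F n j

theorem Amal.good_ge (A : Amal F n H) {j : ℕ} (hj : n ≤ j) : A.Good j := by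
  rw [Amal.Good, A.Gam_eq_bot hj, Gn_eq_bot hj, Subgroup.map_bot]
  exact ⟨fun p hp _ => (Subgroup.mem_bot).1 hp, rfl⟩

theorem Amal.good_last (A : Amal F n H) (hn : 2 ≤ n) {j : Fin n} (hj : (j : ℕ) + 1 = n) :
    A.Good (j : ℕ) := by
  have e : A.Gam (j : ℕ) = A.LS j := by
    refine le_antisymm (A.Gam_le (fun l hl => ?_) (fun i hi hi' => by omega)) (A.LS_le le_rfl)
    obtain rfl : l = j := Fin.ext (by omega)
    exact le_rfl
  refine ⟨?_, ?_⟩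
  · rw [e]
    exact (A.fSS j ⟨0, by omega⟩ (by intro e; rw [e] at hj; simp at hj; omega)).mono le_sup_left
  · rw [e, A.LS_proj]
    refine le_antisymm (fun g hg z ⟨i, hi, ez⟩ => hg z ⟨i, fun e => by subst e; omega, ez⟩)
      (fun g hg z ⟨i, hi, ez⟩ => hg z ⟨i, ?_, ez⟩)
    have h1 : (i : ℕ) ≠ j := fun e => hi (Fin.ext e)
    omega

theorem Amal.good' (A : Amal F n H) (hn : 2 ≤ n)
    (hF : (∃ c : F, c ≠ 0 ∧ c ≠ 1) ∨ ∀ i j : Fin n, (j : ℕ) = (i : ℕ) + 1 → A.Deg i j) :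
    ∀ d j : ℕ, n ≤ j + d → A.Good j ∧ A.Good (j + 1) := by
  intro d
  induction d with
  | zero => exact fun j hj => ⟨A.good_ge (by omega), A.good_ge (by omega)⟩
  | succ d ih =>
    intro j hj
    obtain ⟨h1, h2⟩ := ih (j + 1) (by omega)
    refine ⟨?_, h1⟩
    rcases Nat.lt_or_ge j n with hjn | hjn
    · rcases Nat.lt_or_ge (j + 1) n with hjn' | hjn'
      · let C : Ctx F n H :=
          ⟨A, ⟨j, hjn⟩, ⟨j + 1, hjn'⟩, rfl, hF.imp_right fun h => h _ _ rfl, h1.1, h1.2, h2.2⟩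
        exact ⟨C.step_func, C.step_proj⟩
      · exact A.good_last hn (j := ⟨j, hjn⟩) (by simp; omega)
    · exact A.good_ge hjn

theorem Amal.good (A : Amal F n H) (hn : 2 ≤ n) (hF : ∃ c : F, c ≠ 0 ∧ c ≠ 1) :
    ∀ d j : ℕ, n ≤ j + d → A.Good j ∧ A.Good (j + 1) :=
  A.good' hn (Or.inl hF)

/-- The universal completion. -/
theorem Amal.exists_unique_hom' (A : Amal F n H) (hn : 2 ≤ n)
    (hF : (∃ c : F, c ≠ 0 ∧ c ≠ 1) ∨ ∀ i j : Fin n, (j : ℕ) = (i : ℕ) + 1 → A.Deg i j) :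
    ∃! Φ : Sp F n →* H, (∀ j, ∀ p ∈ A.LS j, Φ p.1 = p.2) ∧
      ∀ i : Fin n, (i : ℕ) + 1 < n → ∀ p ∈ A.LM i, Φ p.1 = p.2 := by
  obtain ⟨hfun, hproj⟩ := (A.good' hn hF n 0 (by omega)).1
  have hspec : ∀ g : Sp F n, lf (A.Gam 0) g ∈ A.Gam 0 ∧ (lf (A.Gam 0) g).1 = g := fun g =>
    lf_spec (by rw [hproj]; rintro z ⟨i, hi, -⟩; omega)
  let Φ : Sp F n →* H :=
    MonoidHom.mk' (fun g => (lf (A.Gam 0) g).2) fun g g' => by
      rw [← Prod.snd_mul]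
      exact congrArg Prod.snd (hfun.eq (hspec _).1 (mul_mem (hspec g).1 (hspec g').1)
        (by rw [Prod.fst_mul, (hspec g).2, (hspec g').2, (hspec _).2]))
  have hΦ : ∀ p ∈ A.Gam 0, Φ p.1 = p.2 := fun p hp =>
    congrArg Prod.snd (hfun.eq (hspec _).1 hp (hspec _).2)
  refine ⟨Φ, ⟨fun j p hp => hΦ p (A.LS_le (Nat.zero_le _) hp),
    fun i hi p hp => hΦ p (A.LM_le (Nat.zero_le _) hi hp)⟩, fun Ψ hΨ => ?_⟩
  let K : Subgroup (Sp F n × H) :=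
    { carrier := {p | Ψ p.1 = p.2}
      one_mem' := map_one Ψ
      mul_mem' := fun {p q} (hp : Ψ p.1 = p.2) (hq : Ψ q.1 = q.2) =>
        show Ψ (p.1 * q.1) = p.2 * q.2 by rw [map_mul, hp, hq]
      inv_mem' := fun {p} (hp : Ψ p.1 = p.2) => show Ψ p.1⁻¹ = p.2⁻¹ by rw [map_inv, hp] }
  have hle : A.Gam 0 ≤ K := A.Gam_le (fun l _ p hp => hΨ.1 l p hp) (fun i _ hi p hp => hΨ.2 i hi p hp)
  refine MonoidHom.ext fun g => ?_
  have h : Ψ (lf (A.Gam 0) g).1 = (lf (A.Gam 0) g).2 := hle (hspec g).1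
  rw [(hspec g).2] at h
  exact h

theorem Amal.exists_unique_hom (A : Amal F n H) (hn : 2 ≤ n) (hF : ∃ c : F, c ≠ 0 ∧ c ≠ 1) :
    ∃! Φ : Sp F n →* H, (∀ j, ∀ p ∈ A.LS j, Φ p.1 = p.2) ∧
      ∀ i : Fin n, (i : ℕ) + 1 < n → ∀ p ∈ A.LM i, Φ p.1 = p.2 :=
  A.exists_unique_hom' hn (Or.inl hF)

end CfsgLib.Chev.CT.SpAm
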